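import Groth.Agent.Lib.Helper85.Matlis
import Groth.Agent.Lib.Helper85.MatlisEnd

/-!
# Recognizing the injective hull of the residue field as an exhaustive union

If `T = ⋃ ι_n(H_n)` with `ι_n` injective, increasing ranges, and `H_n ≃ Hom_A(A/m^n, E)` abstractly,
then `T ≃ E`.
-/

set_option autoImplicit false
universe w u

namespace Groth.Agent.Lib.Helper39.Dual

open IsLocalRing InjHull

variable {A : Type u} [CommRing A]
  {E : Type u} [AddCommGroup E] [Module A E] 

/-- evaluation at `1` on `Hom(A/I, E)` -/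
noncomputable def evalOne (I : Ideal A) : ((A ⧸ I) →ₗ[A] E) →ₗ[A] E :=
  LinearMap.applyₗ (Ideal.Quotient.mk I 1)

theorem evalOne_apply (I : Ideal A) (φ : (A ⧸ I) →ₗ[A] E) :
    evalOne I φ = φ (Ideal.Quotient.mk I 1) := rfl

theorem evalOne_injective (I : Ideal A) : Function.Injective (evalOne (E := E) I) := by
  intro φ φ' h
  apply LinearMap.ext
  intro x
  obtain ⟨a, rfl⟩ := Ideal.Quotient.mk_surjective x
  have h1 : Ideal.Quotient.mk I a = a • Ideal.Quotient.mk I 1 := by
    rw [Algebra.smul_def, map_one, mul_one]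
    rfl
  rw [h1, map_smul, map_smul]
  congr 1

theorem smul_eq_zero_of_mem (I : Ideal A) (r : A) (hr : r ∈ I) (φ : (A ⧸ I) →ₗ[A] E) :
    r • φ = 0 := by
  apply LinearMap.ext
  intro x
  obtain ⟨a, rfl⟩ := Ideal.Quotient.mk_surjective x
  rw [LinearMap.smul_apply, ← map_smul, LinearMap.zero_apply]
  have : r • Ideal.Quotient.mk I a = 0 := by
    rw [Algebra.smul_def]
    change Ideal.Quotient.mk I r * Ideal.Quotient.mk I a = 0
    rw [Ideal.Quotient.eq_zero_iff_mem.2 hr, zero_mul]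
  rw [this, map_zero]

/-- the map `E[I] → Hom(A/I, E)` inverse to evaluation at one -/
noncomputable def torsionToHom (I : Ideal A) : LocCoh.torsionBy I E →ₗ[A] ((A ⧸ I) →ₗ[A] E) where
  toFun v := Submodule.liftQ I (LinearMap.toSpanSingleton A E v.1) (fun r hr => by
    rw [LinearMap.mem_ker, LinearMap.toSpanSingleton_apply]
    exact (Submodule.mem_torsionBySet_iff _ _).1 v.2 ⟨r, hr⟩)
  map_add' v v' := by
    apply LinearMap.ext
    intro x
    obtain ⟨a, rfl⟩ := Ideal.Quotient.mk_surjective x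
    change a • (v.1 + v'.1) = a • v.1 + a • v'.1
    rw [smul_add]
  map_smul' r v := by
    apply LinearMap.ext
    intro x
    obtain ⟨a, rfl⟩ := Ideal.Quotient.mk_surjective x
    change a • (r • v.1) = r • (a • v.1)
    rw [smul_comm]

theorem evalOne_torsionToHom (I : Ideal A) (v : LocCoh.torsionBy I E) :
    evalOne I (torsionToHom I v) = v.1 := by
  change (1 : A) • v.1 = v.1
  rw [one_smul]

theorem torsionToHom_injective (I : Ideal A) : Function.Injective (torsionToHom (E := E) I) := by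
  intro v v' h
  apply Subtype.ext
  rw [← evalOne_torsionToHom I v, ← evalOne_torsionToHom I v', h]

section Main

open Groth.Agent.Lib.Helper85.Matlis

variable {A : Type u} [CommRing A] [IsLocalRing A] [IsNoetherianRing A]
  {E : Type u} [AddCommGroup E] [Module A E] {f : ResidueField A →ₗ[A] E}

/-- the socle of `Hom(A/I, E)` is at most one-dimensional -/
theorem exists_smul_eq_of_socle (hf : IsEssentialInj f) (I : Ideal A) (φ φ' : (A ⧸ I) →ₗ[A] E)
    (h : ∀ r ∈ maximalIdeal A, r • φ = 0) (h' : ∀ r ∈ maximalIdeal A, r • φ' = 0) (hne : φ ≠ 0) :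
    ∃ a : A, φ' = a • φ := by
  have hmem : ∀ ψ : (A ⧸ I) →ₗ[A] E, (∀ r ∈ maximalIdeal A, r • ψ = 0) →
      evalOne I ψ ∈ LinearMap.range f := by
    intro ψ hψ
    rw [← socle_eq_range hf, Submodule.mem_torsionBySet_iff]
    intro r
    rw [← map_smul, hψ r.1 r.2, map_zero]
  obtain ⟨c, hc⟩ := hmem φ h
  obtain ⟨c', hc'⟩ := hmem φ' h'
  have hc0 : c ≠ 0 := by
    intro h0
    apply hne
    apply evalOne_injective I
    rw [← hc, h0, map_zero, map_zero]
  obtain ⟨a, ha⟩ := IsLocalRing.residue_surjective (c' * c⁻¹)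
  refine ⟨a, ?_⟩
  apply evalOne_injective I
  rw [map_smul, ← hc, ← hc', ← map_smul]
  congr 1
  rw [Algebra.smul_def]
  change c' = IsLocalRing.residue A a * c
  rw [ha, mul_assoc, inv_mul_cancel₀ hc0, mul_one]

theorem nonempty_equiv_of_union (hf : IsInjectiveHull f)
    (T : Type w) [AddCommGroup T] [Module A T]
    (H : ℕ → Type w) [∀ n, AddCommGroup (H n)] [∀ n, Module A (H n)]
    (ι : ∀ n, H n →ₗ[A] T) (hι : ∀ n, Function.Injective (ι n))
    (hmono : ∀ n k, n ≤ k → LinearMap.range (ι n) ≤ LinearMap.range (ι k))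
    (hsurj : ∀ t : T, ∃ n x, ι n x = t)
    (e : ∀ n, H n ≃ₗ[A] ((A ⧸ maximalIdeal A ^ n) →ₗ[A] E)) :
    Nonempty (T ≃ₗ[A] E) := by
  have hess := hf.toIsEssentialInj
  -- a nonzero socle element `φ₁` of `Hom(A/m, E)`
  have hf1 : f 1 ∈ LocCoh.torsionBy (maximalIdeal A ^ 1) E := by
    rw [Submodule.mem_torsionBySet_iff]
    intro r
    have h3 : ∀ y : A, y ∈ maximalIdeal A ^ 1 → y ∈ maximalIdeal A := fun y hy => by
      rwa [pow_one] at hy
    have hr : r.1 ∈ maximalIdeal A := h3 r.1 r.2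
    rw [← map_smul]
    change f (r.1 • (1 : ResidueField A)) = 0
    rw [mem_maximalIdeal_smul_residue r.1 hr, map_zero]
  let φ₁ : (A ⧸ maximalIdeal A ^ 1) →ₗ[A] E := torsionToHom (maximalIdeal A ^ 1) ⟨f 1, hf1⟩
  have hφ₁ : evalOne _ φ₁ = f 1 := evalOne_torsionToHom _ _
  have hφ₁0 : φ₁ ≠ 0 := by
    intro h0
    apply f_one_ne_zero hess
    rw [← hφ₁, h0, map_zero]
  have hφ₁m : ∀ r ∈ maximalIdeal A, r • φ₁ = 0 := fun r hr =>
    smul_eq_zero_of_mem _ r (by rwa [pow_one]) φ₁
  let x₁ : H 1 := (e 1).symm φ₁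
  let t₁ : T := ι 1 x₁
  have hx₁m : ∀ r ∈ maximalIdeal A, r • x₁ = 0 := fun r hr => by
    change r • (e 1).symm φ₁ = 0
    rw [← map_smul, hφ₁m r hr, map_zero]
  have ht₁m : ∀ r ∈ maximalIdeal A, r • t₁ = 0 := fun r hr => by
    change r • ι 1 x₁ = 0
    rw [← map_smul, hx₁m r hr, map_zero]
  have hx₁0 : x₁ ≠ 0 := by
    intro h0
    apply hφ₁0
    have := congrArg (e 1) h0
    rwa [LinearEquiv.apply_symm_apply, map_zero] at this
  have ht₁0 : t₁ ≠ 0 := by
    intro h0
    apply hx₁0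
    apply hι 1
    rw [map_zero]
    exact h0
  -- essentiality
  have hessT : ∀ t : T, t ≠ 0 → ∃ a c : A, a • t = c • t₁ ∧ a • t ≠ 0 := by
    intro t ht
    obtain ⟨n, x, hx⟩ := hsurj t
    set k := max n 1 with hk
    obtain ⟨x', hx'⟩ : t ∈ LinearMap.range (ι k) :=
      hmono n k (le_max_left n 1) ⟨x, hx⟩
    obtain ⟨x₁', hx₁'⟩ : t₁ ∈ LinearMap.range (ι k) :=
      hmono 1 k (le_max_right n 1) ⟨x₁, rfl⟩
    have hx'0 : x' ≠ 0 := by
      intro h0
      apply ht
      rw [← hx', h0, map_zero]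
    have hx₁'0 : x₁' ≠ 0 := by
      intro h0
      apply ht₁0
      rw [← hx₁', h0, map_zero]
    have hy0 : e k x' ≠ 0 := fun h0 => hx'0 ((e k).injective (by rw [h0, map_zero]))
    have hy₁0 : e k x₁' ≠ 0 := fun h0 => hx₁'0 ((e k).injective (by rw [h0, map_zero]))
    have hy₁m : ∀ r ∈ maximalIdeal A, r • e k x₁' = 0 := fun r hr => by
      rw [← map_smul]
      have : r • x₁' = 0 := by
        apply hι k
        rw [map_smul, hx₁', ht₁m r hr, map_zero]
      rw [this, map_zero]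
    have hPT : LocCoh.IsPowerTorsion (maximalIdeal A)
        ((A ⧸ maximalIdeal A ^ k) →ₗ[A] E) := fun φ =>
      ⟨k, fun a ha => smul_eq_zero_of_mem _ a ha φ⟩
    obtain ⟨a, ha0, hasoc⟩ := exists_smul_mem_socle hPT (e k x') hy0
    have hasoc' : ∀ r ∈ maximalIdeal A, r • (a • e k x') = 0 := fun r hr =>
      (Submodule.mem_torsionBySet_iff _ _).1 hasoc ⟨r, hr⟩
    obtain ⟨c, hc⟩ := exists_smul_eq_of_socle hess _ (e k x₁') (a • e k x') hy₁m hasoc' hy₁0
    have hxx : a • x' = c • x₁' := by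
      apply (e k).injective
      rw [map_smul, map_smul, hc]
    refine ⟨a, c, ?_, ?_⟩
    · rw [← hx', ← hx₁', ← map_smul, ← map_smul, hxx]
    · intro h0
      apply ha0
      rw [← map_smul]
      have : a • x' = 0 := by
        apply hι k
        rw [map_smul, hx', h0, map_zero]
      rw [this, map_zero]
  -- the map to `E`
  let R₁ : Submodule A T := LinearMap.range (ι 1)
  let eqv₁ : H 1 ≃ₗ[A] R₁ := LinearEquiv.ofInjective (ι 1) (hι 1)
  let g₁ : R₁ →ₗ[A] E :=
    (evalOne (E := E) (maximalIdeal A ^ 1)) ∘ₗ (e 1).toLinearMap ∘ₗ eqv₁.symm.toLinearMap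
  have hg₁ : Function.Injective g₁ := by
    intro u v huv
    have h1 := evalOne_injective _ huv
    have h2 := (e 1).injective h1
    exact eqv₁.symm.injective h2
  obtain ⟨ψ, hψ⟩ := (Module.Baer.of_injective hf.isInjective).extension_property R₁.subtype
    Subtype.val_injective g₁
  have hψR : ∀ u : R₁, ψ u.1 = g₁ u := fun u => by
    rw [← hψ]
    rfl
  have hψinj : Function.Injective ψ := by
    rw [← LinearMap.ker_eq_bot, Submodule.eq_bot_iff]
    intro t ht
    by_contra ht0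
    obtain ⟨a, c, hac, hne⟩ := hessT t ht0
    have hmem : c • t₁ ∈ R₁ := R₁.smul_mem c ⟨x₁, rfl⟩
    have h1 : ψ (c • t₁) = 0 := by
      rw [← hac, map_smul, LinearMap.mem_ker.1 ht, smul_zero]
    have h2 : g₁ ⟨c • t₁, hmem⟩ = 0 := by
      rw [← hψR]
      exact h1
    have h3 : (⟨c • t₁, hmem⟩ : R₁) = 0 := hg₁ (by rw [h2, map_zero])
    apply hne
    rw [hac]
    exact congrArg Subtype.val h3
  have hψsurj : Function.Surjective ψ := by
    intro e₀
    obtain ⟨n, hn⟩ := isPowerTorsion hess e₀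
    have hv : e₀ ∈ LocCoh.torsionBy (maximalIdeal A ^ n) E := by
      rw [Submodule.mem_torsionBySet_iff]
      exact fun r => hn r.1 r.2
    have hkill : ∀ r ∈ maximalIdeal A ^ n, ∀ x : H n, r • x = 0 := fun r hr x => by
      apply (e n).injective
      rw [map_smul, map_zero]
      exact smul_eq_zero_of_mem _ r hr _
    let θ' : H n →ₗ[A] LocCoh.torsionBy (maximalIdeal A ^ n) E :=
      LinearMap.codRestrict _ (ψ ∘ₗ ι n) (fun x => by
        rw [Submodule.mem_torsionBySet_iff]
        intro r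
        change r.1 • (ψ (ι n x)) = 0
        rw [← map_smul, ← map_smul, hkill r.1 r.2 x, map_zero, map_zero])
    have hθ' : Function.Injective θ' := by
      intro x y hxy
      have h1 : ψ (ι n x) = ψ (ι n y) := congrArg Subtype.val hxy
      exact hι n (hψinj h1)
    let Φ : H n →ₗ[A] H n :=
      (e n).symm.toLinearMap ∘ₗ torsionToHom (maximalIdeal A ^ n) ∘ₗ θ'
    have hΦ : Function.Injective Φ := by
      intro x y hxy
      have h1 := (e n).symm.injective hxy
      exact hθ' (torsionToHom_injective _ h1)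
    have hfl : IsFiniteLength A ((A ⧸ maximalIdeal A ^ n) →ₗ[A] E) := by
      rw [← Module.length_ne_top_iff, length_hom hf _
        (Groth.Agent.Lib.Helper85.Matlis.isFiniteLength_quot_pow n), Module.length_ne_top_iff]
      exact Groth.Agent.Lib.Helper85.Matlis.isFiniteLength_quot_pow n
    haveI : IsArtinian A ((A ⧸ maximalIdeal A ^ n) →ₗ[A] E) :=
      (isFiniteLength_iff_isNoetherian_isArtinian.1 hfl).2
    haveI : IsArtinian A (H n) := isArtinian_of_linearEquiv (e n).symm
    have hΦs := IsArtinian.surjective_of_injective_endomorphism Φ hΦ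
    obtain ⟨x, hx⟩ := hΦs ((e n).symm (torsionToHom (maximalIdeal A ^ n) ⟨e₀, hv⟩))
    have h1 := (e n).symm.injective hx
    have h2 : θ' x = ⟨e₀, hv⟩ := torsionToHom_injective _ h1
    exact ⟨ι n x, congrArg Subtype.val h2⟩
  exact ⟨LinearEquiv.ofBijective ψ ⟨hψinj, hψsurj⟩⟩

end Main

end Groth.Agent.Lib.Helper39.Dual
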