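import Groth.Agent.Lib.Helper39.Dual.FinLenDual
import Groth.Agent.Lib.Helper39.Dual.HullUnion
import Groth.Agent.Lib.Helper25.LocDual.ExtVanishD
import Groth.Prelude.Def_DualLC

/-!
# Local cohomology of a normalized dualizing complex: `H^0_m(ω) ≃ E`, `H^i_m(ω) = 0` for `i ≠ 0`
-/

set_option autoImplicit false
universe u

namespace Groth.Agent.Lib.Helper39.Dual

open CategoryTheory CategoryTheory.Limits CategoryTheory.Pretriangulated DerivedCategory Opposite
open Groth.Agent.Lib.Helper25.LocDual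

attribute [local instance] HasDerivedCategory.standard

variable {A : Type u} [CommRing A]

/-- the diagram whose colimit is `Dual2.HDI A I K i` -/
noncomputable abbrev hdiDiag (I : Ideal A) (K : Dual.D A) (i : ℤ) : ℕᵒᵖᵒᵖ ⥤ ModuleCat.{u + 1} A :=
  (localCohomology.ringModIdeals (localCohomology.idealPowersDiagram I) ⋙
      DerivedCategory.singleFunctor (ModuleCat.{u} A) 0).op ⋙
    (linearYoneda A (Dual.D A)).obj (K⟦i⟧)

theorem presForget (F : ℕᵒᵖᵒᵖ ⥤ ModuleCat.{u + 1} A) :
    PreservesColimit F (forget (ModuleCat.{u + 1} A)) := by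
  haveI : PreservesFilteredColimitsOfSize.{0, 0} (forget AddCommGrpCat.{u + 1}) :=
    preservesSmallestFilteredColimits_of_preservesFilteredColimits.{u + 1, u + 1} _
  haveI : PreservesColimitsOfShape ℕᵒᵖᵒᵖ (forget AddCommGrpCat.{u + 1}) :=
    PreservesFilteredColimitsOfSize.preserves_filtered_colimits ℕᵒᵖᵒᵖ
  haveI : PreservesColimit F (forget₂ (ModuleCat.{u + 1} A) AddCommGrpCat.{u + 1} ⋙
      forget AddCommGrpCat.{u + 1}) := inferInstance
  exact this

/-- every element of the colimit comes from some stage -/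
theorem hdi_exists_rep (I : Ideal A) (K : Dual.D A) (i : ℤ) (t : Dual2.HDI A I K i) :
    ∃ (n : ℕ) (x : (hdiDiag I K i).obj (op (op n))),
      (colimit.ι (hdiDiag I K i) (op (op n))).hom x = t := by
  haveI := presForget (hdiDiag I K i)
  obtain ⟨j, y, hy⟩ := Concrete.colimit_exists_rep (hdiDiag I K i) t
  exact ⟨j.unop.unop, y, hy⟩

/-- vanishing of the colimit when all stages vanish -/
theorem subsingleton_hdi (I : Ideal A) (K : Dual.D A) (i : ℤ)
    (h : ∀ n : ℕ, Subsingleton (Dual.inD A (A ⧸ I ^ n) ⟶ K⟦i⟧)) :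
    Subsingleton (Dual2.HDI A I K i) := by
  refine ⟨fun t t' => ?_⟩
  suffices key : ∀ t : Dual2.HDI A I K i, t = 0 by rw [key t, key t']
  intro t
  obtain ⟨n, x, rfl⟩ := hdi_exists_rep I K i t
  have hx : x = 0 := (h n).elim _ _
  rw [hx, map_zero]

section Local

variable [IsLocalRing A] [IsNoetherianRing A]
  (ω : Dual.D A) (hω : Dual.IsDualizing A ω) (hn : Dual.IsNormalized A ω)

open IsLocalRing

include hn in
/-- precomposition with `A/m^k → A/m^n` is injective on `Hom(-, ω[0])` -/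
theorem precomp_mapQ_injective (n k : ℕ) (hnk : n ≤ k)
    (x : Dual.inD A (A ⧸ maximalIdeal A ^ n) ⟶ ω⟦(0 : ℤ)⟧)
    (hx : (singleFunctor (ModuleCat.{u} A) 0).map (ModuleCat.ofHom
      (Submodule.mapQ (maximalIdeal A ^ k) (maximalIdeal A ^ n) LinearMap.id
        (by simpa using Ideal.pow_le_pow_right hnk))) ≫ x = 0) : x = 0 := by
  set π : (A ⧸ maximalIdeal A ^ k) →ₗ[A] (A ⧸ maximalIdeal A ^ n) :=
    Submodule.mapQ (maximalIdeal A ^ k) (maximalIdeal A ^ n) LinearMap.id
      (by simpa using Ideal.pow_le_pow_right hnk) with hπ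
  have hπs : Function.Surjective π := by
    intro y
    obtain ⟨a, rfl⟩ := Submodule.Quotient.mk_surjective _ y
    exact ⟨Submodule.Quotient.mk a, rfl⟩
  let N₁ : Submodule A (A ⧸ maximalIdeal A ^ k) := LinearMap.ker π
  have hflk : IsFiniteLength A (A ⧸ maximalIdeal A ^ k) :=
    Groth.Agent.Lib.Helper85.Matlis.isFiniteLength_quot_pow k
  have hN₁ : IsFiniteLength A N₁ := by
    rw [isFiniteLength_iff_isNoetherian_isArtinian] at hflk ⊢
    obtain ⟨h1, h2⟩ := hflk
    exact ⟨inferInstance, inferInstance⟩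
  obtain ⟨δ, hT⟩ := ses_triangle_distinguished (A := A) N₁.subtype π
    (Submodule.subtype_injective _) hπs (LinearMap.exact_subtype_ker_map π)
  obtain ⟨g, hg⟩ := Triangle.yoneda_exact₃ _ hT x hx
  have hsub : Subsingleton ((Dual.inD A N₁)⟦(1 : ℤ)⟧ ⟶ ω⟦(0 : ℤ)⟧) := by
    have h1 : Subsingleton (Dual.inD A N₁ ⟶ ω⟦(-1 : ℤ)⟧) :=
      Groth.Agent.Lib.Helper25.LocDual.subsingleton_hom_of_isFiniteLength (ω⟦(-1 : ℤ)⟧)
        (subsingleton_hom_residue ω hn (-1) (by omega)) N₁ hN₁
    exact subsingleton_hom_of_shift (-1 : ℤ)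
      ((shiftFunctorCompIsoId (Dual.D A) (1 : ℤ) (-1) (by omega)).app (Dual.inD A N₁))
      ((shiftFunctorAdd' (Dual.D A) (0 : ℤ) (-1) (-1) (by omega)).app ω).symm h1
  rw [hg, hsub.elim g 0]
  exact comp_zero

include hn in
theorem hdiDiag_map_injective {j k : ℕᵒᵖᵒᵖ} (g : j ⟶ k) :
    Function.Injective ((hdiDiag (maximalIdeal A) ω 0).map g).hom := by
  intro x y hxy
  have hle : j.unop.unop ≤ k.unop.unop := g.unop.unop.le
  have hsub : ∀ z : (hdiDiag (maximalIdeal A) ω 0).obj j,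
      ((hdiDiag (maximalIdeal A) ω 0).map g).hom z = 0 → z = 0 := by
    intro z hz
    exact precomp_mapQ_injective ω hn j.unop.unop k.unop.unop hle z hz
  have h1 : ((hdiDiag (maximalIdeal A) ω 0).map g).hom (x - y) = 0 := by
    rw [map_sub, hxy, sub_self]
  exact sub_eq_zero.1 (hsub _ h1)

include hω hn in
theorem hdi_omega_zero {E : Type u} [AddCommGroup E] [Module A E]
    {f : ResidueField A →ₗ[A] E} (hf : InjHull.IsInjectiveHull f) :
    Nonempty (Dual2.HDI A (maximalIdeal A) ω 0 ≃ₗ[A] E) := by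
  haveI := presForget (hdiDiag (maximalIdeal A) ω 0)
  refine nonempty_equiv_of_union hf (Dual2.HDI A (maximalIdeal A) ω 0)
    (fun n => ((hdiDiag (maximalIdeal A) ω 0).obj (op (op n)) : ModuleCat.{u + 1} A))
    (fun n => (colimit.ι (hdiDiag (maximalIdeal A) ω 0) (op (op n))).hom) ?_ ?_ ?_ ?_
  · -- injectivity of the colimit injections
    intro n x y hxy
    obtain ⟨k, g, g', hgg⟩ :=
      (Concrete.colimit_rep_eq_iff_exists (hdiDiag (maximalIdeal A) ω 0) x y).1 hxy
    have hg' : g' = g := Subsingleton.elim _ _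
    rw [hg'] at hgg
    exact hdiDiag_map_injective ω hn g hgg
  · intro n k hnk
    rintro _ ⟨x, rfl⟩
    refine ⟨((hdiDiag (maximalIdeal A) ω 0).map (homOfLE hnk).op.op).hom x, ?_⟩
    have h := colimit.w (hdiDiag (maximalIdeal A) ω 0) (homOfLE hnk).op.op
    have h2 := congrArg (fun φ => φ.hom x) h
    exact h2
  · intro t
    exact hdi_exists_rep (maximalIdeal A) ω 0 t
  · intro n
    exact (Linear.homCongr A (Iso.refl _) ((shiftFunctorZero (Dual.D A) ℤ).app ω)).trans
      (Classical.choice (finLen_main ω hω hn (A ⧸ maximalIdeal A ^ n)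
        (Groth.Agent.Lib.Helper85.Matlis.isFiniteLength_quot_pow n) E f hf))

end Local

end Groth.Agent.Lib.Helper39.Dual
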