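import Groth.Agent.Lib.Helper39.Dual.DepthExt

/-!
`Hom(M, ω[i]) = 0` for `i < - dim Supp M` (normalized dualizing complex over a Noetherian
local ring).
-/

set_option autoImplicit false
universe u

namespace Groth.Agent.Lib.Helper39.Dual

open CategoryTheory CategoryTheory.Limits CategoryTheory.Pretriangulated DerivedCategory
open Groth.Agent.Lib.Helper67

attribute [local instance] HasDerivedCategory.standard

theorem withBot_aux (a : WithBot ℕ∞) (d : ℕ) (h : a + 1 ≤ (d : WithBot ℕ∞)) :
    a = ⊥ ∨ ∃ d' : ℕ, d = d' + 1 ∧ a ≤ (d' : WithBot ℕ∞) := by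
  induction a using WithBot.recBotCoe with
  | bot => exact Or.inl rfl
  | coe a =>
    right
    induction a using ENat.recTopCoe with
    | top =>
      exfalso
      have h1 : ((⊤ : ℕ∞) : WithBot ℕ∞) + 1 = ((⊤ : ℕ∞) : WithBot ℕ∞) := by
        rw [show (1 : WithBot ℕ∞) = ((1 : ℕ∞) : WithBot ℕ∞) from rfl, ← WithBot.coe_add, top_add]
      rw [h1, show (d : WithBot ℕ∞) = ((d : ℕ∞) : WithBot ℕ∞) from rfl, WithBot.coe_le_coe,
        top_le_iff] at h
      exact ENat.natCast_ne_top d h
    | coe n =>
      have h' : n + 1 ≤ d := by exact_mod_cast h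
      refine ⟨d - 1, by omega, ?_⟩
      rw [show ((d - 1 : ℕ) : WithBot ℕ∞) = (((d - 1 : ℕ) : ℕ∞) : WithBot ℕ∞) from rfl,
        WithBot.coe_le_coe]
      exact_mod_cast (by omega : n ≤ d - 1)

variable {A : Type u} [CommRing A] [IsLocalRing A] [IsNoetherianRing A]
  (ω : Dual.D A) (hω : Dual.IsDualizing A ω) (hn : Dual.IsNormalized A ω)

include hω hn in
theorem dimVan : ∀ (d : ℕ) (i : ℤ), i < -(d : ℤ) → ∀ (M : Type u) [AddCommGroup M] [Module A M]
    [Module.Finite A M], Module.supportDim A M ≤ (d : WithBot ℕ∞) →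
    Subsingleton (Dual.inD A M ⟶ ω⟦i⟧) := by
  intro d
  induction d using Nat.strong_induction_on with
  | _ d ih =>
  intro i hi M _ _ hM
  induction hM using IsNoetherianRing.induction_on_isQuotientEquivQuotientPrime A with
  | subsingleton N => exact fun _ => subsingleton_hom_of_subsingleton N _
  | quotient N p f =>
    intro hN
    rw [Module.supportDim_eq_of_equiv f] at hN
    apply Groth.Agent.Lib.Helper25.LocDual.subsingleton_hom_of_linearEquiv _ f
    by_cases hp : p.asIdeal = IsLocalRing.maximalIdeal A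
    · apply Groth.Agent.Lib.Helper25.LocDual.subsingleton_hom_of_linearEquiv _
        (Submodule.quotEquivOfEq _ _ hp)
      exact subsingleton_hom_residue ω hn i (by omega)
    · obtain ⟨x, hx, hxp⟩ : ∃ x ∈ IsLocalRing.maximalIdeal A, x ∉ p.asIdeal := by
        by_contra hcon
        push Not at hcon
        exact hp (le_antisymm (IsLocalRing.le_maximalIdeal p.2.ne_top) hcon)
      have hdom : IsDomain (A ⧸ p.asIdeal) := Ideal.Quotient.isDomain p.asIdeal
      have hreg : IsSMulRegular (A ⧸ p.asIdeal) x := by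
        intro a b hab
        have hx0 : (Ideal.Quotient.mk p.asIdeal x) ≠ 0 := by
          rwa [Ne, Ideal.Quotient.eq_zero_iff_mem]
        have h1 : Ideal.Quotient.mk p.asIdeal x * a = Ideal.Quotient.mk p.asIdeal x * b := by
          have := hab
          simpa [Algebra.smul_def] using this
        exact mul_left_cancel₀ hx0 h1
      apply subsingleton_hom_of_regular ω hω (A ⧸ p.asIdeal) x hx hreg i
      have hQ := Module.supportDim_quotSMulTop_succ_eq_supportDim (M := A ⧸ p.asIdeal) hreg hx
      rw [← hQ] at hN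
      rcases withBot_aux _ d hN with hbot | ⟨d', hd', hle⟩
      · have : Subsingleton (QuotSMulTop x (A ⧸ p.asIdeal)) :=
          (Module.supportDim_eq_bot_iff_subsingleton (R := A)
            (M := QuotSMulTop x (A ⧸ p.asIdeal))).mp hbot
        exact subsingleton_hom_of_subsingleton _ _
      · exact ih d' (by omega) (i + 1) (by omega) (QuotSMulTop x (A ⧸ p.asIdeal)) hle
  | exact N₁ N₂ N₃ f g hf hg hfg h₁ h₃ =>
    intro hN
    obtain ⟨δ, hT⟩ := ses_triangle_distinguished f g hf hg hfg
    exact subsingleton_hom_obj₂' _ _ _ hT _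
      (h₁ ((Module.supportDim_le_of_injective f hf).trans hN))
      (h₃ ((Module.supportDim_le_of_surjective g hg).trans hN))

end Groth.Agent.Lib.Helper39.Dual
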