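import Groth.Agent.Lib.Helper25.LocDual.ArtLocal
import Groth.Agent.Lib.Helper54.LDerivedKProj

/-!
`Hom_{D(A)}(A[0], X[i]) = 0` iff `H^i(X) = 0`.
-/

set_option autoImplicit false
universe u

namespace Groth.Agent.Lib.Helper39.Dual

open CategoryTheory CategoryTheory.Limits DerivedCategory

attribute [local instance] HasDerivedCategory.standard

variable {A : Type u} [CommRing A]

theorem subsingleton_hom_inD_self_iff (X : Dual.D A) (i : ℤ) :
    Subsingleton (Dual.inD A A ⟶ X⟦i⟧) ↔ Subsingleton (Dual.HD A X i) := by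
  constructor
  · intro h
    exact ModuleCat.subsingleton_of_isZero
      (Groth.Agent.Lib.Helper25.LocDual.isZero_HD_of_subsingleton X i h)
  · intro h
    -- `Hom((singleFunctor i)(free PUnit), X)` is a subsingleton
    have h1 : Subsingleton ((Groth.Agent.Lib.Helper54.LDerived.freeSingle A i).obj PUnit.{u + 1} ⟶ X) := by
      refine (Groth.Agent.Lib.Helper54.LDerived.homEquiv A i PUnit.{u + 1} X).subsingleton_congr.mpr ?_
      refine ⟨fun a b => ?_⟩
      ext t
      exact h.elim _ _
    -- `free PUnit ≅ A`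
    let e0 : (ModuleCat.free A).obj PUnit.{u + 1} ≅ ModuleCat.of A A :=
      (Finsupp.LinearEquiv.finsuppUnique A A PUnit.{u + 1}).toModuleIso
    have h2 : Subsingleton ((singleFunctor (ModuleCat.{u} A) i).obj (ModuleCat.of A A) ⟶ X) := by
      refine ⟨fun a b => ?_⟩
      rw [← cancel_epi ((singleFunctor (ModuleCat.{u} A) i).mapIso e0).hom]
      exact h1.elim _ _
    let e : Dual.inD A A ≅ ((singleFunctor (ModuleCat.{u} A) i).obj (ModuleCat.of A A))⟦i⟧ :=
      (((DerivedCategory.singleFunctors (ModuleCat.{u} A)).shiftIso i 0 i (by simp)).app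
        (ModuleCat.of A A)).symm
    refine ⟨fun f g => ?_⟩
    rw [← cancel_epi e.inv]
    obtain ⟨f', hf'⟩ := (shiftFunctor (Dual.D A) i).map_surjective (e.inv ≫ f)
    obtain ⟨g', hg'⟩ := (shiftFunctor (Dual.D A) i).map_surjective (e.inv ≫ g)
    rw [← hf', ← hg', h2.elim f' g']

end Groth.Agent.Lib.Helper39.Dual
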