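import Groth.Agent.Lib.Helper39.Dual.LocExt
import Groth.Agent.Lib.Helper39.Dual.DimVan
import Groth.Agent.Lib.Helper39.Dual.HDSelf
import Groth.Agent.Lib.Helper25.LocDual.ExtVanishD
import Groth.Agent.Lib.Helper84.Devissage
import Groth.Agent.S0367
import Groth.Agent.Lib.Helper25.LocDual.ExtNonvanish

/-!
# The dualizing module `ω_A = H^{-dim A}(ω)` has depth `≥ min(dim A, 2)`
-/

set_option autoImplicit false
universe u

namespace Groth.Agent.Lib.Helper39.Dual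

open CategoryTheory CategoryTheory.Limits CategoryTheory.Pretriangulated DerivedCategory
open CategoryTheory.Triangulated
open Groth.Agent.Lib.Helper84 Groth.Agent.Lib.Helper25.Bidual Groth.Agent.Lib.Helper25.LocDual

attribute [local instance] HasDerivedCategory.standard

variable {A : Type u} [CommRing A] [IsLocalRing A] [IsNoetherianRing A]
  (ω : Dual.D A) (hω : Dual.IsDualizing A ω) (hn : Dual.IsNormalized A ω)

include hω hn in
/-- `H^i(ω) = 0` for `i < -dim A`. -/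
theorem subsingleton_HD_of_lt (δ : ℕ) (hδ : ringKrullDim A = δ) (i : ℤ) (hi : i < -(δ : ℤ)) :
    Subsingleton (Dual.HD A ω i) := by
  rw [← subsingleton_hom_inD_self_iff]
  refine dimVan ω hω hn δ i hi A ?_
  rw [Module.supportDim_self_eq_ringKrullDim, hδ]

include hω hn in
/-- `H^i(ω) = 0` for `i > 0`. -/
theorem subsingleton_HD_of_pos (i : ℤ) (hi : 0 < i) : Subsingleton (Dual.HD A ω i) := by
  rw [← subsingleton_hom_inD_self_iff]
  exact vanProp ω hω hn i A 0 (by simp) (by simpa using hi)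

include hω hn in
/-- `Ext^{-k}(ω_A, ω) = 0` for `k < min(dim A, 2)`. -/
theorem subsingleton_hom_omega (δ : ℕ) (hδ : ringKrullDim A = δ) (k : ℕ) (hk2 : k < 2)
    (hkδ : k < δ) :
    Subsingleton (Dual.inD A (Dual.HD A ω (-(δ : ℤ))) ⟶ ω⟦(-(k : ℤ))⟧) := by
  let t : TStructure (Dual.D A) := TStructure.t
  set a : ℤ := -(δ : ℤ) with ha
  haveI hGE : ω.IsGE a := by
    rw [isGE_iff]
    intro i hi
    haveI := subsingleton_HD_of_lt ω hω hn δ hδ i hi
    exact ModuleCat.isZero_of_subsingleton _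
  have hT := t.triangleLTGE_distinguished (a + 1) ω
  -- the bottom piece
  have hA1 : t.IsLE ((t.truncLT (a + 1)).obj ω) a := t.isLE_truncLT_obj ω (a + 1) a
  have hA2 : t.IsGE ((t.truncLT (a + 1)).obj ω) a := inferInstance
  obtain ⟨N, ⟨eN⟩⟩ := exists_iso_singleFunctor_obj_of_isGE_of_isLE ((t.truncLT (a + 1)).obj ω) a
  have := DerivedT.isIso_homologyMap_truncLTι ω (a + 1) a (by lia)
  have e1 : (homologyFunctor (ModuleCat.{u} A) a).obj ω ≅ N :=
    (asIso ((homologyFunctor (ModuleCat.{u} A) a).map ((t.truncLTι (a + 1)).app ω))).symm ≪≫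
      (homologyFunctor (ModuleCat.{u} A) a).mapIso eN ≪≫
        (singleFunctorCompHomologyFunctorIso (ModuleCat.{u} A) a).app N
  have eX : (singleFunctor (ModuleCat.{u} A) a).obj
      ((homologyFunctor (ModuleCat.{u} A) a).obj ω) ≅ (t.truncLT (a + 1)).obj ω :=
    (singleFunctor (ModuleCat.{u} A) a).mapIso e1 ≪≫ eN.symm
  have eS : (Dual.inD A (Dual.HD A ω a))⟦(δ : ℤ)⟧ ≅
      (singleFunctor (ModuleCat.{u} A) a).obj ((homologyFunctor (ModuleCat.{u} A) a).obj ω) :=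
    ((DerivedCategory.singleFunctors (ModuleCat.{u} A)).shiftIso (δ : ℤ) a 0
      (by rw [ha]; omega)).app ((homologyFunctor (ModuleCat.{u} A) a).obj ω)
  -- it suffices to show `Hom(τ_{≤ a} ω, ω[δ - k]) = 0`
  have hl : (-(k : ℤ)) + (δ : ℤ) = (δ : ℤ) - k := by ring
  refine subsingleton_hom_of_shift (δ : ℤ) (eS ≪≫ eX)
    ((shiftFunctorAdd' (Dual.D A) (-(k : ℤ)) (δ : ℤ) ((δ : ℤ) - k) hl).app ω).symm ?_
  -- vanishing of `Hom(ω, ω[δ-k])`
  have h2 : Subsingleton (ω ⟶ ω⟦(δ : ℤ) - k⟧) := hω.ext_self_subsingleton _ (by omega)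
  -- vanishing of `Hom(τ_{> a} ω, ω[δ-k+1])`
  have h3 : Subsingleton ((t.truncGE (a + 1)).obj ω ⟶ (ω⟦(δ : ℤ) - k⟧)⟦(1 : ℤ)⟧) := by
    set Z := (t.truncGE (a + 1)).obj ω with hZ
    have hZGE : Z.IsGE (a + 1) := inferInstance
    have hidx : (δ : ℤ) - k + 1 + (1 - (δ : ℤ)) = 2 - (k : ℤ) := by ring
    have e2 : ((ω⟦(δ : ℤ) - k⟧)⟦(1 : ℤ)⟧)⟦(1 - (δ : ℤ))⟧ ≅ ω⟦(2 : ℤ) - k⟧ :=
      (shiftFunctor (Dual.D A) (1 - (δ : ℤ))).mapIso
        ((shiftFunctorAdd' (Dual.D A) ((δ : ℤ) - k) 1 ((δ : ℤ) - k + 1) rfl).app ω).symm ≪≫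
      ((shiftFunctorAdd' (Dual.D A) ((δ : ℤ) - k + 1) (1 - (δ : ℤ)) ((2 : ℤ) - k) hidx).app ω).symm
    refine subsingleton_hom_of_shift (1 - (δ : ℤ)) (Iso.refl _) e2 ?_
    -- cohomology of `Z[1-δ]`
    have eH : ∀ i : ℤ, (homologyFunctor (ModuleCat.{u} A) i).obj (Z⟦(1 - (δ : ℤ))⟧) ≅
        (homologyFunctor (ModuleCat.{u} A) ((1 - (δ : ℤ)) + i)).obj Z := fun i =>
      ((homologyFunctor (ModuleCat.{u} A) 0).shiftIso (1 - (δ : ℤ)) i ((1 - (δ : ℤ)) + i) rfl).app Z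
    have hZlow : ∀ j : ℤ, j < a + 1 → IsZero ((homologyFunctor (ModuleCat.{u} A) j).obj Z) :=
      fun j hj => isZero_of_isGE Z (a + 1) j hj
    have hZhigh : ∀ j : ℤ, a + 1 ≤ j → ((homologyFunctor (ModuleCat.{u} A) j).obj ω ≅
        (homologyFunctor (ModuleCat.{u} A) j).obj Z) := fun j hj => by
      have := DerivedT.isIso_homologyMap_truncGEπ ω (a + 1) j hj
      exact asIso ((homologyFunctor (ModuleCat.{u} A) j).map ((t.truncGEπ (a + 1)).app ω))
    refine hom_vanish_of_ge_zero ω hω hn (Z⟦(1 - (δ : ℤ))⟧) (fun i => ?_) (δ : ℤ) (fun i hi => ?_)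
      (fun i hi => ?_) ((2 : ℤ) - k) (by omega)
    · by_cases hj : a + 1 ≤ (1 - (δ : ℤ)) + i
      · haveI := hω.finite_cohomology ((1 - (δ : ℤ)) + i)
        exact Module.Finite.equiv (hZhigh _ hj ≪≫ (eH i).symm).toLinearEquiv
      · haveI : Subsingleton ((homologyFunctor (ModuleCat.{u} A) ((1 - (δ : ℤ)) + i)).obj Z) :=
          ModuleCat.subsingleton_of_isZero (hZlow _ (by omega))
        haveI : Subsingleton ((homologyFunctor (ModuleCat.{u} A) i).obj (Z⟦(1 - (δ : ℤ))⟧)) :=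
          (eH i).toLinearEquiv.toEquiv.subsingleton
        infer_instance
    · have hj : a + 1 ≤ (1 - (δ : ℤ)) + i := by omega
      haveI := subsingleton_HD_of_pos ω hω hn ((1 - (δ : ℤ)) + i) (by omega)
      exact (hZhigh _ hj ≪≫ (eH i).symm).symm.toLinearEquiv.toEquiv.subsingleton
    · haveI : Subsingleton ((homologyFunctor (ModuleCat.{u} A) ((1 - (δ : ℤ)) + i)).obj Z) :=
        ModuleCat.subsingleton_of_isZero (hZlow _ (by omega))
      exact (eH i).toLinearEquiv.toEquiv.subsingleton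
  -- conclude by the long exact sequence
  refine ⟨fun f g => ?_⟩
  obtain ⟨ψ, hψ⟩ := exists_extension _ hT (ω⟦(δ : ℤ) - k⟧) h3 f
  obtain ⟨ψ', hψ'⟩ := exists_extension _ hT (ω⟦(δ : ℤ) - k⟧) h3 g
  rw [hψ, hψ', h2.elim ψ ψ']

include hω hn in
/-- `ω_A = H^{-dim A}(ω)` is nonzero -/
theorem omega_nontrivial (δ : ℕ) (hδ : ringKrullDim A = δ) :
    Nontrivial (Dual.HD A ω (-(δ : ℤ))) := by
  have h1 : Module.supportDim A A = (δ : WithBot ℕ∞) := by
    rw [Module.supportDim_self_eq_ringKrullDim, hδ]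
  have h2 := nontrivial_ext_neg_dim ω hω hn A δ h1
  rw [← not_subsingleton_iff_nontrivial] at h2 ⊢
  exact fun h => h2 ((subsingleton_hom_inD_self_iff ω _).2 h)

include hω hn in
/-- `depth ω_A ≥ min(2, dim Supp ω_A)` -/
theorem omega_depth (δ : ℕ) (hδ : ringKrullDim A = δ) :
    min (2 : WithBot ℕ∞) (Module.supportDim A (Dual.HD A ω (-(δ : ℤ)))) ≤
      ((LocCoh.depth A (Dual.HD A ω (-(δ : ℤ))) : ℕ∞) : WithBot ℕ∞) := by
  haveI := omega_nontrivial ω hω hn δ hδ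
  haveI := hω.finite_cohomology (-(δ : ℤ))
  obtain ⟨n, hnd⟩ := ENat.ne_top_iff_exists.mp
    (Groth.Agent.Lib.Helper67.depth_ne_top (R := A) (Dual.HD A ω (-(δ : ℤ))))
  have hnt := nontrivial_hom_of_depth_eq ω hω hn n (Dual.HD A ω (-(δ : ℤ))) hnd.symm
  have hmin : min 2 δ ≤ n := by
    by_contra hlt
    push Not at hlt
    have h1 : n < 2 := lt_of_lt_of_le hlt (min_le_left _ _)
    have h2 : n < δ := lt_of_lt_of_le hlt (min_le_right _ _)
    exact not_subsingleton _ (subsingleton_hom_omega ω hω hn δ hδ n h1 h2)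
  have hsd : Module.supportDim A (Dual.HD A ω (-(δ : ℤ))) ≤ ((δ : ℕ∞) : WithBot ℕ∞) := by
    have := Module.supportDim_le_ringKrullDim (R := A) (M := Dual.HD A ω (-(δ : ℤ)))
    rw [hδ] at this
    exact this
  rw [← hnd]
  calc min (2 : WithBot ℕ∞) (Module.supportDim A (Dual.HD A ω (-(δ : ℤ))))
      ≤ min (2 : WithBot ℕ∞) ((δ : ℕ∞) : WithBot ℕ∞) := min_le_min le_rfl hsd
    _ = (((min 2 δ : ℕ) : ℕ∞) : WithBot ℕ∞) := by
        have h2 : (2 : WithBot ℕ∞) = (((2 : ℕ) : ℕ∞) : WithBot ℕ∞) := rfl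
        rw [h2]
        rcases le_total 2 δ with h | h
        · rw [min_eq_left h, min_eq_left (WithBot.coe_le_coe.2 (Nat.cast_le.2 h))]
        · rw [min_eq_right h, min_eq_right (WithBot.coe_le_coe.2 (Nat.cast_le.2 h))]
    _ ≤ ((n : ℕ∞) : WithBot ℕ∞) := by exact_mod_cast hmin

end Groth.Agent.Lib.Helper39.Dual
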