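import Groth.Agent.Lib.Helper39.Dual.LocExt
import Groth.Agent.Lib.Helper25.LocDual.DimFin

/-!
# Catenary-type consequences of the dimension function of a dualizing complex
-/

set_option autoImplicit false
universe u

namespace Groth.Agent.Lib.Helper39.Dual

open CategoryTheory CategoryTheory.Limits CategoryTheory.Pretriangulated DerivedCategory
open Groth.Agent.Lib.Helper84 Groth.Agent.Lib.Helper25.Bidual Groth.Agent.Lib.Helper25.LocDual

attribute [local instance] HasDerivedCategory.standard

variable {A : Type u} [CommRing A] [IsLocalRing A] [IsNoetherianRing A]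

theorem coheight_ne_top (p : PrimeSpectrum A) : Order.coheight p ≠ ⊤ := by
  intro htop
  have h2 := Order.coheight_le_krullDim p
  rw [htop] at h2
  have h3 : ringKrullDim A < ⊤ := ringKrullDim_lt_top
  exact absurd (lt_of_le_of_lt h2 h3) (lt_irrefl _)

theorem height_ne_top (p : PrimeSpectrum A) : Order.height p ≠ ⊤ := by
  intro htop
  have h2 := Order.height_le_krullDim p
  rw [htop] at h2
  have h3 : ringKrullDim A < ⊤ := ringKrullDim_lt_top
  exact absurd (lt_of_le_of_lt h2 h3) (lt_irrefl _)

theorem height_add_coheight_le (p : PrimeSpectrum A) (d : ℕ) (hd : ringKrullDim A = d) :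
    Order.height p + Order.coheight p ≤ (d : ℕ∞) := by
  have h1 : Order.krullDim (PrimeSpectrum A) =
      ↑(⨆ (a : PrimeSpectrum A), Order.height a + Order.coheight a) :=
    Order.krullDim_eq_iSup_height_add_coheight_of_nonempty
  have h2 : ((⨆ (a : PrimeSpectrum A), Order.height a + Order.coheight a : ℕ∞) : WithBot ℕ∞) =
      ((d : ℕ∞) : WithBot ℕ∞) := by
    rw [← h1]
    exact hd
  have h3 : (⨆ (a : PrimeSpectrum A), Order.height a + Order.coheight a) = (d : ℕ∞) :=
    WithBot.coe_injective h2
  rw [← h3]
  exact le_iSup (fun a : PrimeSpectrum A => Order.height a + Order.coheight a) p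

/-- the coheight is a dimension function when there is a dualizing complex -/
theorem coheight_covBy (ω : Dual.D A) (hω : Dual.IsDualizing A ω) (hnorm : Dual.IsNormalized A ω)
    (p q : PrimeSpectrum A) (hpq : p ⋖ q) : Order.coheight p = Order.coheight q + 1 := by
  obtain ⟨I, a, b, hI, hz, ⟨eI⟩⟩ := exists_bounded_injective_model ω hω
  have hz' : ∀ i, (i < a ∨ max a b < i) → IsZero (I.X i) := fun i hi => by
    rcases hi with hi | hi
    · exact hz i (Or.inl hi)
    · exact hz i (Or.inr (lt_of_le_of_lt (le_max_right a b) hi))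
  have hωI := isDualizing_of_iso eI.symm hω
  obtain ⟨n, hn, hcov⟩ := dimFun_model I a (max a b) (le_max_left a b) hI hz' hωI
  have h0 : n (IsLocalRing.closedPoint A) = 0 := by
    by_contra hne
    have hs : Subsingleton (Dual.inD A (IsLocalRing.ResidueField A) ⟶
        (Q.obj I)⟦n (IsLocalRing.closedPoint A)⟧) :=
      (subsingleton_hom_congr_right ((shiftFunctor (Dual.D A) _).mapIso eI.symm)).1
        (hnorm _ hne)
    have hl : LocZero (IsLocalRing.closedPoint A).asIdeal.primeCompl
        (Dual.inD A (A ⧸ (IsLocalRing.closedPoint A).asIdeal) ⟶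
          (Q.obj I)⟦n (IsLocalRing.closedPoint A)⟧) :=
      @locZero_of_subsingleton _ _ _ _ _ _ hs
    exact (hn _ _).1 hl rfl
  obtain ⟨ep, hep⟩ := ENat.ne_top_iff_exists.mp (coheight_ne_top p)
  obtain ⟨eq, heq⟩ := ENat.ne_top_iff_exists.mp (coheight_ne_top q)
  have hnp : n p = -(ep : ℤ) := eq_neg_coheight n hcov h0 ep p hep.symm
  have hnq : n q = -(eq : ℤ) := eq_neg_coheight n hcov h0 eq q heq.symm
  have h1 := hcov p q hpq
  have h2 : ep = eq + 1 := by omega
  rw [← hep, ← heq, h2]
  push_cast
  rfl

/-- every chain from a prime `q` up to `p` and then to the top is no longer than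
`ht p + dim A/p` -/
theorem coheight_le_height_add_coheight (ω : Dual.D A) (hω : Dual.IsDualizing A ω)
    (hnorm : Dual.IsNormalized A ω) : ∀ (k : ℕ) (p : PrimeSpectrum A), Order.height p ≤ k →
    ∀ q : PrimeSpectrum A, q ≤ p → Order.coheight q ≤ Order.height p + Order.coheight p := by
  intro k
  induction k with
  | zero =>
    intro p hp q hqp
    have hmin : IsMin p := Order.height_eq_zero.1 (le_antisymm (by simpa using hp) bot_le)
    have : q = p := le_antisymm hqp (hmin hqp)
    rw [this]
    exact le_add_self
  | succ k ih =>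
    intro p hp q hqp
    rcases eq_or_lt_of_le hqp with heq | hlt
    · rw [heq]
      exact le_add_self
    · obtain ⟨c, hqc, hcp⟩ := exists_covBy_of_lt q p hlt
      have h1 : Order.height c + 1 ≤ Order.height p := Order.height_add_one_le hcp.lt
      have h2 : Order.height c ≤ k := by
        have h3 : Order.height c + 1 ≤ ((k + 1 : ℕ) : ℕ∞) := le_trans h1 hp
        have h4 : ((k + 1 : ℕ) : ℕ∞) = (k : ℕ∞) + 1 := by push_cast; rfl
        rw [h4] at h3
        exact (ENat.add_le_add_iff_right ENat.one_ne_top).1 h3
      have h3 := ih c h2 q hqc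
      have h4 := coheight_covBy ω hω hnorm c p hcp
      calc Order.coheight q ≤ Order.height c + Order.coheight c := h3
        _ = Order.height c + (Order.coheight p + 1) := by rw [h4]
        _ = (Order.height c + 1) + Order.coheight p := by ring
        _ ≤ Order.height p + Order.coheight p := by gcongr

/-- below every prime `p` there is a minimal prime `q` with `dim A/q ≥ ht p + dim A/p` -/
theorem exists_isMin_le : ∀ (k : ℕ) (p : PrimeSpectrum A), Order.height p ≤ k →
    ∃ q : PrimeSpectrum A, IsMin q ∧ q ≤ p ∧
      Order.height p + Order.coheight p ≤ Order.coheight q := by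
  intro k
  induction k with
  | zero =>
    intro p hp
    have h0 : Order.height p = 0 := le_antisymm (by simpa using hp) bot_le
    refine ⟨p, Order.height_eq_zero.1 h0, le_refl p, ?_⟩
    rw [h0, zero_add]
  | succ k ih =>
    intro p hp
    obtain ⟨m, hm⟩ := ENat.ne_top_iff_exists.mp (height_ne_top p)
    rcases m with _ | m
    · have h0 : Order.height p = 0 := by rw [← hm]; rfl
      refine ⟨p, Order.height_eq_zero.1 h0, le_refl p, ?_⟩
      rw [h0, zero_add]
    · have hm' : Order.height p = (m : ℕ∞) + 1 := by rw [← hm]; push_cast; rfl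
      obtain ⟨_, ⟨y, hy, hym⟩, _⟩ := Order.height_eq_coe_add_one_iff.1 hm'
      have hyk : Order.height y ≤ k := by
        rw [hym]
        have h3 : (m : ℕ∞) + 1 ≤ ((k + 1 : ℕ) : ℕ∞) := by rw [← hm']; exact hp
        have h4 : ((k + 1 : ℕ) : ℕ∞) = (k : ℕ∞) + 1 := by push_cast; rfl
        rw [h4] at h3
        exact (ENat.add_le_add_iff_right ENat.one_ne_top).1 h3
      obtain ⟨q, hqmin, hqy, hq⟩ := ih y hyk
      refine ⟨q, hqmin, le_trans hqy hy.le, ?_⟩
      have h5 : Order.coheight p + 1 ≤ Order.coheight y := Order.coheight_add_one_le hy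
      calc Order.height p + Order.coheight p = (m : ℕ∞) + (Order.coheight p + 1) := by
            rw [hm']; ring
        _ ≤ (m : ℕ∞) + Order.coheight y := by gcongr
        _ = Order.height y + Order.coheight y := by rw [hym]
        _ ≤ Order.coheight q := hq

end Groth.Agent.Lib.Helper39.Dual
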