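import Groth.Agent.Lib.Helper39.Dual.LocExt
import Groth.Agent.Lib.Helper25.LocDual.MinPrime

/-!
# Localizing at a prime: the local model with its cohomology modules
-/

set_option autoImplicit false
universe u

namespace Groth.Agent.Lib.Helper39.Dual

open CategoryTheory CategoryTheory.Limits CategoryTheory.Pretriangulated DerivedCategory
open Groth.Agent.Lib.Helper84 Groth.Agent.Lib.Helper25.Bidual Groth.Agent.Lib.Helper25.LocDual

attribute [local instance] HasDerivedCategory.standard

/-- cohomology of the extension of scalars along a localization -/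
theorem nonempty_HD_ext_iso {A B : Type u} [CommRing A] [CommRing B] (φ : A →+* B)
    (S : Submonoid A) (hloc : @IsLocalization A _ S B _ φ.toAlgebra)
    (ω : Dual.D A) (I : DRing.Cx A) (e : Q.obj I ≅ ω) (i : ℤ) :
    Nonempty ((DerivedCategory.homologyFunctor (ModuleCat.{u} B) i).obj
      (Q.obj ((DTen.extCx φ).obj I)) ≅
        (ModuleCat.extendScalars.{u, u, u} φ).obj
          ((DerivedCategory.homologyFunctor (ModuleCat.{u} A) i).obj ω)) := by
  have hflat : φ.Flat := flat_of_isLocalization φ S hloc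
  haveI : PreservesFiniteLimits (FlatBC.ext φ) := FlatBC.preservesFiniteLimits_ext φ hflat
  haveI : PreservesFiniteColimits (FlatBC.ext φ) :=
    haveI : (FlatBC.ext φ).IsLeftAdjoint :=
      (ModuleCat.extendRestrictScalarsAdj φ).isLeftAdjoint
    inferInstance
  have e1 : (DerivedCategory.homologyFunctor (ModuleCat.{u} A) i).obj ω ≅ I.homology i :=
    (DerivedCategory.homologyFunctor (ModuleCat.{u} A) i).mapIso e.symm ≪≫
      (DerivedCategory.homologyFunctorFactors (ModuleCat.{u} A) i).app I
  have e2 : (DerivedCategory.homologyFunctor (ModuleCat.{u} B) i).obj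
      (Q.obj ((DTen.extCx φ).obj I)) ≅ (FlatBC.ext φ).obj (I.homology i) :=
    (DerivedCategory.homologyFunctorFactors (ModuleCat.{u} B) i).app _ ≪≫
      (I.sc i).mapHomologyIso (FlatBC.ext φ)
  exact ⟨e2 ≪≫ (FlatBC.ext φ).mapIso e1.symm⟩

/-- localization at a prime: there is a normalized dualizing complex on `A_p` computing the
localized `Ext` modules and the localized cohomology modules. -/
theorem exists_local_model_HD {A : Type u} [CommRing A] [IsLocalRing A] [IsNoetherianRing A]
    (ω : Dual.D A) (hω : Dual.IsDualizing A ω) (hnorm : Dual.IsNormalized A ω)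
    (p : PrimeSpectrum A) (e : ℕ) (he : Order.coheight p = (e : ℕ∞)) :
    ∃ (_ : IsNoetherianRing (Localization.AtPrime p.asIdeal))
      (ω' : Dual.D (Localization.AtPrime p.asIdeal)),
      Dual.IsDualizing (Localization.AtPrime p.asIdeal) ω' ∧
      Dual.IsNormalized (Localization.AtPrime p.asIdeal) ω' ∧
      (∀ (M : ModuleCat.{u} A) [Module.Finite A M] (i : ℤ),
        LocZero p.asIdeal.primeCompl
          ((DerivedCategory.singleFunctor (ModuleCat.{u} A) 0).obj M ⟶ ω⟦i⟧) ↔
        Subsingleton ((DerivedCategory.singleFunctor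
          (ModuleCat.{u} (Localization.AtPrime p.asIdeal)) 0).obj
            ((ModuleCat.extendScalars.{u, u, u}
              (algebraMap A (Localization.AtPrime p.asIdeal))).obj M) ⟶ ω'⟦i + e⟧)) ∧
      ∀ i : ℤ, Nonempty (LocalizedModule p.asIdeal.primeCompl (Dual.HD A ω i)
        ≃ₗ[Localization.AtPrime p.asIdeal]
          Dual.HD (Localization.AtPrime p.asIdeal) ω' (i + e)) := by
  obtain ⟨I, a, b, hI, hz, ⟨eI⟩⟩ := exists_bounded_injective_model ω hω
  have hz' : ∀ i, (i < a ∨ max a b < i) → IsZero (I.X i) := fun i hi => by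
    rcases hi with hi | hi
    · exact hz i (Or.inl hi)
    · exact hz i (Or.inr (lt_of_le_of_lt (le_max_right a b) hi))
  have hωI := isDualizing_of_iso eI.symm hω
  obtain ⟨n, hn, hcov⟩ := dimFun_model I a (max a b) (le_max_left a b) hI hz' hωI
  have h0 : n (IsLocalRing.closedPoint A) = 0 := by
    by_contra hne
    have hs : Subsingleton (Dual.inD A (IsLocalRing.ResidueField A) ⟶
        (Q.obj I)⟦n (IsLocalRing.closedPoint A)⟧) :=
      (subsingleton_hom_congr_right ((shiftFunctor (Dual.D A) _).mapIso eI.symm)).1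
        (hnorm _ hne)
    have hl : LocZero (IsLocalRing.closedPoint A).asIdeal.primeCompl
        (Dual.inD A (A ⧸ (IsLocalRing.closedPoint A).asIdeal) ⟶
          (Q.obj I)⟦n (IsLocalRing.closedPoint A)⟧) :=
      @locZero_of_subsingleton _ _ _ _ _ _ hs
    exact (hn _ _).1 hl rfl
  have hnp : n p = -(e : ℤ) := eq_neg_coheight n hcov h0 e p he
  let S := p.asIdeal.primeCompl
  let B := Localization.AtPrime p.asIdeal
  let φ : A →+* B := algebraMap A B
  have hloc : @IsLocalization A _ S B _ φ.toAlgebra := by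
    have h : φ.toAlgebra = (inferInstance : Algebra A B) :=
      Algebra.algebra_ext _ _ (fun _ => rfl)
    rw [h]
    infer_instance
  have hB : Dual.IsDualizing B (Q.obj ((DTen.extCx φ).obj I)) :=
    isDualizing_ext φ S hloc I a (max a b) (le_max_left a b) hI hz' hωI
  have hBn : IsNoetherianRing B := hB.isNoetherianRing
  refine ⟨hBn, (Q.obj (JJ φ I))⟦n p⟧, isDualizing_shift _ hB _, ?_, ?_, ?_⟩
  · intro i hi
    have h1 : Subsingleton (Dual.inD B (B ⧸ IsLocalRing.maximalIdeal B) ⟶
        (Q.obj (JJ φ I))⟦n p + i⟧) :=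
      (locZero_hom_quot_prime_iff φ p.asIdeal hloc I a (max a b) hI hz' (n p + i)).1
        ((hn p (n p + i)).2 (by omega))
    exact (subsingleton_hom_congr_right
      ((shiftFunctorAdd' (Dual.D B) (n p) i (n p + i) rfl).app (Q.obj (JJ φ I)))).1 h1
  · intro M _ i
    have hiff : LocZero S ((DerivedCategory.singleFunctor (ModuleCat.{u} A) 0).obj M ⟶ ω⟦i⟧) ↔
        LocZero S ((DerivedCategory.singleFunctor (ModuleCat.{u} A) 0).obj M ⟶ (Q.obj I)⟦i⟧) :=
      ⟨fun h => h.of_linearEquiv (Linear.homCongr A (Iso.refl _)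
          ((shiftFunctor (Dual.D A) i).mapIso eI.symm)),
        fun h => h.of_linearEquiv (Linear.homCongr A (Iso.refl _)
          ((shiftFunctor (Dual.D A) i).mapIso eI))⟩
    rw [hiff, locZero_hom_single_iff φ S hloc I a (max a b) hI hz' M i]
    have hidx : n p + (i + (e : ℤ)) = i := by omega
    exact subsingleton_hom_congr_right
      ((shiftFunctorAdd' (Dual.D B) (n p) (i + e) i hidx).app (Q.obj (JJ φ I)))
  · intro i
    obtain ⟨e2⟩ := nonempty_HD_ext_iso φ S hloc ω I eI i
    obtain ⟨e3⟩ := nonempty_extendScalars_equiv_localizedModule p.asIdeal (Dual.HD A ω i)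
    have hidx : n p + (i + (e : ℤ)) = i := by omega
    let e4 : (homologyFunctor (ModuleCat.{u} B) (i + e)).obj ((Q.obj (JJ φ I))⟦n p⟧) ≅
        (homologyFunctor (ModuleCat.{u} B) i).obj (Q.obj (JJ φ I)) :=
      ((homologyFunctor (ModuleCat.{u} B) 0).shiftIso (n p) (i + e) i hidx).app (Q.obj (JJ φ I))
    exact ⟨e3.symm ≪≫ₗ (e4 ≪≫ e2).symm.toLinearEquiv⟩

end Groth.Agent.Lib.Helper39.Dual
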