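import Groth.Agent.Lib.Helper39.Dual.OmegaDepth
import Groth.Agent.Lib.Helper39.Dual.LocExtHD
import Groth.Agent.Lib.Helper39.Dual.Catenary
import Groth.Agent.Lib.Helper67.Depth2

/-!
# Support and `(S_2)` for the dualizing module `ω_A = H^{-dim A}(ω)`
-/

set_option autoImplicit false
universe u

namespace Groth.Agent.Lib.Helper39.Dual

open CategoryTheory CategoryTheory.Limits CategoryTheory.Pretriangulated DerivedCategory
open Groth.Agent.Lib.Helper84 Groth.Agent.Lib.Helper25.Bidual Groth.Agent.Lib.Helper25.LocDual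

attribute [local instance] HasDerivedCategory.standard

variable {A : Type u} [CommRing A] [IsLocalRing A] [IsNoetherianRing A]
  (ω : Dual.D A) (hω : Dual.IsDualizing A ω) (hn : Dual.IsNormalized A ω)

include hω hn in
theorem omega_local_analysis (d : ℕ) (hd : ringKrullDim A = d) (p : PrimeSpectrum A) :
    (Nontrivial (LocalizedModule p.asIdeal.primeCompl (Dual.HD A ω (-(d : ℤ)))) ↔
      ∃ q ∈ minimalPrimes A, q ≤ p.asIdeal ∧ ringKrullDim (A ⧸ q) = d) ∧
    min (2 : WithBot ℕ∞) (Module.supportDim (Localization.AtPrime p.asIdeal)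
        (LocalizedModule p.asIdeal.primeCompl (Dual.HD A ω (-(d : ℤ))))) ≤
      ((LocCoh.depth (Localization.AtPrime p.asIdeal)
        (LocalizedModule p.asIdeal.primeCompl (Dual.HD A ω (-(d : ℤ)))) : ℕ∞) : WithBot ℕ∞) := by
  obtain ⟨e, he⟩ := ENat.ne_top_iff_exists.mp (coheight_ne_top p)
  obtain ⟨hh, hhh⟩ := ENat.ne_top_iff_exists.mp (height_ne_top p)
  obtain ⟨hBn, ω', hω', hn', _, hHD⟩ := exists_local_model_HD ω hω hn p e he.symm
  obtain ⟨E⟩ := hHD (-(d : ℤ))
  have hBdim : ringKrullDim (Localization.AtPrime p.asIdeal) = (hh : WithBot ℕ∞) := by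
    rw [IsLocalization.AtPrime.ringKrullDim_eq_height p.asIdeal (Localization.AtPrime p.asIdeal),
      PrimeSpectrum.height_eq_orderHeight, ← hhh]
    rfl
  have hle : hh + e ≤ d := by
    have := height_add_coheight_le p d hd
    rw [← hhh, ← he] at this
    exact_mod_cast this
  -- nonvanishing forces `ht p + dim A/p = d`
  have hkey : Nontrivial (Dual.HD (Localization.AtPrime p.asIdeal) ω' (-(d : ℤ) + e)) →
      hh + e = d := by
    intro hnt
    by_contra hne
    have hlt : -(d : ℤ) + e < -(hh : ℤ) := by omega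
    exact not_subsingleton _ (subsingleton_HD_of_lt ω' hω' hn' hh hBdim _ hlt)
  have hconv : hh + e = d →
      Nontrivial (Dual.HD (Localization.AtPrime p.asIdeal) ω' (-(d : ℤ) + e)) := by
    intro heq
    have hidx : -(d : ℤ) + e = -(hh : ℤ) := by omega
    rw [hidx]
    exact omega_nontrivial ω' hω' hn' hh hBdim
  have hiffL : Nontrivial (LocalizedModule p.asIdeal.primeCompl (Dual.HD A ω (-(d : ℤ)))) ↔
      Nontrivial (Dual.HD (Localization.AtPrime p.asIdeal) ω' (-(d : ℤ) + e)) :=
    ⟨fun h => E.symm.toEquiv.nontrivial, fun h => E.toEquiv.nontrivial⟩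
  refine ⟨?_, ?_⟩
  · rw [hiffL]
    constructor
    · intro hnt
      have heq := hkey hnt
      obtain ⟨q, hqmin, hqp, hq⟩ := exists_isMin_le hh p (le_of_eq hhh.symm)
      refine ⟨q.asIdeal, PrimeSpectrum.isMin_iff.1 hqmin, hqp, ?_⟩
      rw [ringKrullDim_quotient_eq_coheight q]
      have h1 : Order.coheight q ≤ (d : ℕ∞) := by
        have h2 := Order.coheight_le_krullDim q
        have h3 : Order.krullDim (PrimeSpectrum A) = ((d : ℕ∞) : WithBot ℕ∞) := hd
        rw [h3] at h2
        exact WithBot.coe_le_coe.1 h2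
      have h2 : (d : ℕ∞) ≤ Order.coheight q := by
        rw [← hhh, ← he] at hq
        have h3 : ((hh + e : ℕ) : ℕ∞) = (hh : ℕ∞) + (e : ℕ∞) := by push_cast; rfl
        rw [← h3, heq] at hq
        exact hq
      rw [le_antisymm h1 h2]
      rfl
    · rintro ⟨q, hqmin, hqp, hq⟩
      haveI : q.IsPrime := hqmin.1.1
      apply hconv
      have h1 := coheight_le_height_add_coheight ω hω hn hh p (le_of_eq hhh.symm) ⟨q, inferInstance⟩ hqp
      rw [ringKrullDim_quotient_eq_coheight ⟨q, inferInstance⟩] at hq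
      have h2 : Order.coheight (⟨q, inferInstance⟩ : PrimeSpectrum A) = (d : ℕ∞) :=
        WithBot.coe_injective hq
      rw [h2, ← hhh, ← he] at h1
      have h3 : d ≤ hh + e := by exact_mod_cast h1
      omega
  · by_cases hsub : Subsingleton
        (LocalizedModule p.asIdeal.primeCompl (Dual.HD A ω (-(d : ℤ))))
    · rw [Module.supportDim_eq_bot_of_subsingleton]
      exact le_trans (min_le_right _ _) bot_le
    · have hnt : Nontrivial (LocalizedModule p.asIdeal.primeCompl (Dual.HD A ω (-(d : ℤ)))) :=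
        not_subsingleton_iff_nontrivial.mp hsub
      have heq := hkey (hiffL.1 hnt)
      have hidx : -(d : ℤ) + e = -(hh : ℤ) := by omega
      rw [hidx] at E
      rw [Module.supportDim_eq_of_equiv E, Groth.Agent.Lib.Helper67.depth_congr E]
      exact omega_depth ω' hω' hn' hh hBdim

end Groth.Agent.Lib.Helper39.Dual
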