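import Groth.Agent.Lib.Helper39.Dual.DepthExt
import Groth.Agent.Lib.Helper25.LocDual.ExtNonvanish

/-!
# Localizing `Ext^i(M, ω)` at a prime: a normalized dualizing complex on `A_p`

For a Noetherian local ring `A` with normalized dualizing complex `ω` and a prime `p` of coheight
`e = dim A/p`, there is a normalized dualizing complex `ω'` on `A_p` with
`Ext^i_A(M, ω)_p = 0 ↔ Ext^{i+e}_{A_p}(M_p, ω') = 0` for all finite `M`.
-/

set_option autoImplicit false
universe u

namespace Groth.Agent.Lib.Helper39.Dual

open CategoryTheory CategoryTheory.Limits CategoryTheory.Pretriangulated DerivedCategory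
open Groth.Agent.Lib.Helper84 Groth.Agent.Lib.Helper25.Bidual Groth.Agent.Lib.Helper25.LocDual

attribute [local instance] HasDerivedCategory.standard

theorem subsingleton_hom_shift_shift {C : Type*} [Category C] [Preadditive C] [HasShift C ℤ]
    {X Y : C} (n : ℤ) (h : Subsingleton (X ⟶ Y)) : Subsingleton (X⟦n⟧ ⟶ Y⟦n⟧) := by
  refine ⟨fun f g => ?_⟩
  obtain ⟨f', rfl⟩ := (shiftFunctor C n).map_surjective f
  obtain ⟨g', rfl⟩ := (shiftFunctor C n).map_surjective g
  rw [h.elim f' g']

/-- a shift of a dualizing complex is dualizing -/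
theorem isDualizing_shift {A : Type u} [CommRing A] (ω : Dual.D A) (hω : Dual.IsDualizing A ω)
    (n : ℤ) : Dual.IsDualizing A (ω⟦n⟧) where
  isNoetherianRing := hω.isNoetherianRing
  finite_injective_dimension := by
    obtain ⟨a, b, h⟩ := hω.finite_injective_dimension
    refine ⟨a - n, b - n, fun M _ _ i hi => ?_⟩
    have h1 := h M (n + i) (by omega)
    exact (subsingleton_hom_congr_right
      ((shiftFunctorAdd' (Dual.D A) n i (n + i) rfl).app ω)).1 h1
  finite_cohomology := fun i => by
    haveI := hω.finite_cohomology (n + i)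
    let e : (homologyFunctor (ModuleCat.{u} A) i).obj (ω⟦n⟧) ≅
        (homologyFunctor (ModuleCat.{u} A) (n + i)).obj ω :=
      ((homologyFunctor (ModuleCat.{u} A) 0).shiftIso n i (n + i) rfl).app ω
    exact Module.Finite.equiv e.symm.toLinearEquiv
  toEnd_bijective := by
    have h1 := hω.toEnd_bijective
    have h2 : Function.Bijective
        (fun f : ω ⟶ ω => (shiftFunctor (Dual.D A) n).map f) :=
      ⟨(shiftFunctor (Dual.D A) n).map_injective, (shiftFunctor (Dual.D A) n).map_surjective⟩
    have h3 := h2.comp h1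
    convert h3 using 1
    funext a
    simp only [Function.comp]
    rw [Functor.map_smul, CategoryTheory.Functor.map_id]
  ext_self_subsingleton := fun i hi => by
    have h1 := subsingleton_hom_shift_shift n (hω.ext_self_subsingleton i hi)
    exact (subsingleton_hom_congr_right ((shiftFunctorComm (Dual.D A) i n).app ω)).1 h1

/-- localization at a prime: there is a normalized dualizing complex on `A_p` computing the
localized `Ext` modules. -/
theorem exists_local_model {A : Type u} [CommRing A] [IsLocalRing A] [IsNoetherianRing A]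
    (ω : Dual.D A) (hω : Dual.IsDualizing A ω) (hnorm : Dual.IsNormalized A ω)
    (p : PrimeSpectrum A) (e : ℕ) (he : Order.coheight p = (e : ℕ∞)) :
    ∃ (_ : IsNoetherianRing (Localization.AtPrime p.asIdeal))
      (ω' : Dual.D (Localization.AtPrime p.asIdeal)),
      Dual.IsDualizing (Localization.AtPrime p.asIdeal) ω' ∧
      Dual.IsNormalized (Localization.AtPrime p.asIdeal) ω' ∧
      ∀ (M : ModuleCat.{u} A) [Module.Finite A M] (i : ℤ),
        LocZero p.asIdeal.primeCompl
          ((DerivedCategory.singleFunctor (ModuleCat.{u} A) 0).obj M ⟶ ω⟦i⟧) ↔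
        Subsingleton ((DerivedCategory.singleFunctor
          (ModuleCat.{u} (Localization.AtPrime p.asIdeal)) 0).obj
            ((ModuleCat.extendScalars.{u, u, u}
              (algebraMap A (Localization.AtPrime p.asIdeal))).obj M) ⟶ ω'⟦i + e⟧) := by
  obtain ⟨I, a, b, hI, hz, ⟨eI⟩⟩ := exists_bounded_injective_model ω hω
  have hz' : ∀ i, (i < a ∨ max a b < i) → IsZero (I.X i) := fun i hi => by
    rcases hi with hi | hi
    · exact hz i (Or.inl hi)
    · exact hz i (Or.inr (lt_of_le_of_lt (le_max_right a b) hi))
  have hωI := isDualizing_of_iso eI.symm hω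
  obtain ⟨n, hn, hcov⟩ := dimFun_model I a (max a b) (le_max_left a b) hI hz' hωI
  have h0 : n (IsLocalRing.closedPoint A) = 0 := by
    by_contra hne
    have hs : Subsingleton (Dual.inD A (IsLocalRing.ResidueField A) ⟶
        (Q.obj I)⟦n (IsLocalRing.closedPoint A)⟧) :=
      (subsingleton_hom_congr_right ((shiftFunctor (Dual.D A) _).mapIso eI.symm)).1
        (hnorm _ hne)
    have hl : LocZero (IsLocalRing.closedPoint A).asIdeal.primeCompl
        (Dual.inD A (A ⧸ (IsLocalRing.closedPoint A).asIdeal) ⟶
          (Q.obj I)⟦n (IsLocalRing.closedPoint A)⟧) :=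
      @locZero_of_subsingleton _ _ _ _ _ _ hs
    exact (hn _ _).1 hl rfl
  have hnp : n p = -(e : ℤ) := eq_neg_coheight n hcov h0 e p he
  let S := p.asIdeal.primeCompl
  let B := Localization.AtPrime p.asIdeal
  let φ : A →+* B := algebraMap A B
  have hloc : @IsLocalization A _ S B _ φ.toAlgebra := by
    have h : φ.toAlgebra = (inferInstance : Algebra A B) :=
      Algebra.algebra_ext _ _ (fun _ => rfl)
    rw [h]
    infer_instance
  have hB : Dual.IsDualizing B (Q.obj ((DTen.extCx φ).obj I)) :=
    isDualizing_ext φ S hloc I a (max a b) (le_max_left a b) hI hz' hωI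
  haveI hBn : IsNoetherianRing B := hB.isNoetherianRing
  refine ⟨hBn, (Q.obj (JJ φ I))⟦n p⟧, isDualizing_shift _ hB _, ?_, ?_⟩
  · intro i hi
    have h1 : Subsingleton (Dual.inD B (B ⧸ IsLocalRing.maximalIdeal B) ⟶
        (Q.obj (JJ φ I))⟦n p + i⟧) :=
      (locZero_hom_quot_prime_iff φ p.asIdeal hloc I a (max a b) hI hz' (n p + i)).1
        ((hn p (n p + i)).2 (by omega))
    exact (subsingleton_hom_congr_right
      ((shiftFunctorAdd' (Dual.D B) (n p) i (n p + i) rfl).app (Q.obj (JJ φ I)))).1 h1
  · intro M _ i
    have hiff : LocZero S ((DerivedCategory.singleFunctor (ModuleCat.{u} A) 0).obj M ⟶ ω⟦i⟧) ↔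
        LocZero S ((DerivedCategory.singleFunctor (ModuleCat.{u} A) 0).obj M ⟶ (Q.obj I)⟦i⟧) :=
      ⟨fun h => h.of_linearEquiv (Linear.homCongr A (Iso.refl _)
          ((shiftFunctor (Dual.D A) i).mapIso eI.symm)),
        fun h => h.of_linearEquiv (Linear.homCongr A (Iso.refl _)
          ((shiftFunctor (Dual.D A) i).mapIso eI))⟩
    rw [hiff, locZero_hom_single_iff φ S hloc I a (max a b) hI hz' M i]
    have hidx : n p + (i + (e : ℤ)) = i := by omega
    exact subsingleton_hom_congr_right
      ((shiftFunctorAdd' (Dual.D B) (n p) (i + e) i hidx).app (Q.obj (JJ φ I)))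

theorem finite_extendScalars {A B : Type u} [CommRing A] [CommRing B] (φ : A →+* B)
    (M : Type u) [AddCommGroup M] [Module A M] [Module.Finite A M] :
    Module.Finite B ((ModuleCat.extendScalars.{u, u, u} φ).obj (ModuleCat.of A M)) := by
  letI := φ.toAlgebra
  have h : Module.Finite B (TensorProduct A B M) := Module.Finite.base_change A B M
  exact h

theorem nonempty_extendScalars_equiv_of_isLocalizedModule {A B : Type u} [CommRing A] [CommRing B]
    (φ : A →+* B) (S : Submonoid A) (hloc : @IsLocalization A _ S B _ φ.toAlgebra)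
    (M : Type u) [AddCommGroup M] [Module A M]
    (M' : Type u) [AddCommGroup M'] [Module A M'] [Module B M']
    (hst : ∀ (a : A) (m : M'), φ a • m = a • m) (f : M →ₗ[A] M') [IsLocalizedModule S f] :
    Nonempty (((ModuleCat.extendScalars.{u, u, u} φ).obj (ModuleCat.of A M)) ≃ₗ[B] M') := by
  letI := φ.toAlgebra
  haveI := hloc
  haveI : IsScalarTower A B M' := IsScalarTower.of_algebraMap_smul hst
  have hb : IsBaseChange B f := (isLocalizedModule_iff_isBaseChange S B f).1 inferInstance
  exact ⟨hb.equiv⟩

/-- `B ⊗_A M ≃ M_p` as `B = A_p`-modules -/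
theorem nonempty_extendScalars_equiv_localizedModule {A : Type u} [CommRing A] (p : Ideal A)
    [p.IsPrime] (M : Type u) [AddCommGroup M] [Module A M] :
    Nonempty (((ModuleCat.extendScalars.{u, u, u}
      (algebraMap A (Localization.AtPrime p))).obj (ModuleCat.of A M)) ≃ₗ[Localization.AtPrime p]
        LocalizedModule p.primeCompl M) := by
  have hloc : @IsLocalization A _ p.primeCompl (Localization.AtPrime p) _
      (algebraMap A (Localization.AtPrime p)).toAlgebra := by
    have h : (algebraMap A (Localization.AtPrime p)).toAlgebra =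
        (inferInstance : Algebra A (Localization.AtPrime p)) :=
      Algebra.algebra_ext _ _ (fun _ => rfl)
    rw [h]
    infer_instance
  exact nonempty_extendScalars_equiv_of_isLocalizedModule (algebraMap A (Localization.AtPrime p))
    p.primeCompl hloc M (LocalizedModule p.primeCompl M)
    (fun a m => algebraMap_smul (Localization.AtPrime p) a m)
    (LocalizedModule.mkLinearMap p.primeCompl M)

end Groth.Agent.Lib.Helper39.Dual
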