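import Groth.Agent.Lib.Helper39.Dual.DepthExt
import Groth.Agent.Lib.Helper4.InjDim
import Groth.Agent.S5155
import Groth.Agent.S0302

/-!
Over an Artinian local ring a normalized dualizing complex is an injective hull of the residue
field in degree `0`.
-/

set_option autoImplicit false
universe u

namespace Groth.Agent.Lib.Helper39.Dual

open CategoryTheory CategoryTheory.Limits CategoryTheory.Pretriangulated DerivedCategory

attribute [local instance] HasDerivedCategory.standard

variable {A : Type u} [CommRing A] [IsLocalRing A] [IsNoetherianRing A]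
  (ω : Dual.D A) (hω : Dual.IsDualizing A ω) (hn : Dual.IsNormalized A ω)

include hω hn in
/-- `Hom(κ, ω) ≃ κ` for a normalized dualizing complex -/
theorem nonempty_hom_residue_equiv :
    Nonempty ((Dual.inD A (A ⧸ IsLocalRing.maximalIdeal A) ⟶ ω) ≃ₗ[A]
      (A ⧸ IsLocalRing.maximalIdeal A)) := by
  obtain ⟨n, _, ⟨e⟩⟩ := Groth.Agent.Lib.Helper25.Bidual.residue_main (IsLocalRing.maximalIdeal A) ω hω
  have hnt : Nontrivial (A ⧸ IsLocalRing.maximalIdeal A) :=
    Ideal.Quotient.nontrivial_iff.mpr (IsLocalRing.maximalIdeal.isMaximal A).ne_top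
  by_cases h0 : n = 0
  · subst h0
    exact ⟨(Linear.homCongr A (Iso.refl _) ((shiftFunctorZero (Dual.D A) ℤ).app ω).symm).trans e⟩
  · exfalso
    have := subsingleton_hom_residue ω hn n h0
    have : Subsingleton (A ⧸ IsLocalRing.maximalIdeal A) := e.symm.toEquiv.subsingleton
    exact not_subsingleton _ this

include hω hn in
theorem artinian_main [IsArtinianRing A] :
    ∃ W : ModuleCat.{u} A, Nonempty (ω ≅ (singleFunctor (ModuleCat.{u} A) 0).obj W) ∧
      Module.Injective A W ∧
      IsSimpleModule A ((A ⧸ IsLocalRing.maximalIdeal A) →ₗ[A] W) := by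
  have hA : IsFiniteLength A A := (isArtinianRing_iff_isFiniteLength A).1 inferInstance
  have hz : ∀ i : ℤ, i ≠ 0 →
      IsZero ((DerivedCategory.homologyFunctor (ModuleCat.{u} A) i).obj ω) := fun i hi =>
    Groth.Agent.Lib.Helper25.LocDual.isZero_HD_of_subsingleton ω i
      (Groth.Agent.Lib.Helper25.LocDual.subsingleton_hom_of_isFiniteLength (ω⟦i⟧)
        (subsingleton_hom_residue ω hn i hi) A hA)
  haveI h1 : ω.IsLE 0 := (isLE_iff ω 0).2 (fun i hi => hz i (by omega))
  haveI h2 : ω.IsGE 0 := (isGE_iff ω 0).2 (fun i hi => hz i (by omega))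
  obtain ⟨W, ⟨e⟩⟩ := exists_iso_singleFunctor_obj_of_isGE_of_isLE ω 0
  refine ⟨W, ⟨e⟩, ?_, ?_⟩
  · -- injectivity
    have hinj : Injective W := by
      apply Groth.Agent.Lib.Helper4.InjDim.injective_of_ext_one_quotient
      intro I
      rw [← Groth.Agent.Lib.Helper68.DualBasic.subsingleton_hom_iff_ext A]
      have hv : Subsingleton (Dual.inD A (A ⧸ I) ⟶ ω⟦((1 : ℕ) : ℤ)⟧) :=
        vanProp ω hω hn _ (A ⧸ I) 0 (by simp) (by simp)
      exact subsingleton_hom_of_iso_right ((shiftFunctor (Dual.D A) ((1 : ℕ) : ℤ)).mapIso e) hv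
    exact (Module.injective_iff_injective_object A W).mpr hinj
  · -- simple socle
    obtain ⟨e0⟩ := nonempty_hom_residue_equiv ω hω hn
    rw [isSimpleModule_iff_quot_maximal]
    refine ⟨IsLocalRing.maximalIdeal A, inferInstance, ⟨?_⟩⟩
    let κ : ModuleCat.{u} A := ModuleCat.of A (A ⧸ IsLocalRing.maximalIdeal A)
    let c1 : ((A ⧸ IsLocalRing.maximalIdeal A) →ₗ[A] W) ≃ₗ[A] (κ ⟶ W) :=
      (ModuleCat.homLinearEquiv (S := A) (M := κ) (N := W)).symm
    let c2 : (κ ⟶ W) ≃ₗ[A] ((singleFunctor (ModuleCat.{u} A) 0).obj κ ⟶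
        (singleFunctor (ModuleCat.{u} A) 0).obj W) :=
      LinearEquiv.ofBijective ((singleFunctor (ModuleCat.{u} A) 0).mapLinearMap A)
        ⟨(singleFunctor (ModuleCat.{u} A) 0).map_injective,
          (singleFunctor (ModuleCat.{u} A) 0).map_surjective⟩
    let c3 : ((singleFunctor (ModuleCat.{u} A) 0).obj κ ⟶
        (singleFunctor (ModuleCat.{u} A) 0).obj W) ≃ₗ[A]
        (Dual.inD A (A ⧸ IsLocalRing.maximalIdeal A) ⟶ ω) :=
      Linear.homCongr A (Iso.refl _) e.symm
    exact ((c1.trans c2).trans c3).trans e0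

end Groth.Agent.Lib.Helper39.Dual
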