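import Groth.Agent.Lib.Helper25.LocDual.ArtLocal
import Groth.Agent.Lib.Helper25.Bidual.Main
import Groth.Agent.Lib.Helper67.Depth
import Groth.Agent.S1746
import Groth.Agent.Lib.Helper68.DualBasic

/-!
Basic tools for normalized dualizing complexes over Noetherian local rings:
long exact sequence lemmas for `Hom(-, ω[i])`, finiteness, the Nakayama step.
-/

set_option autoImplicit false
universe u

namespace Groth.Agent.Lib.Helper39.Dual

open CategoryTheory CategoryTheory.Limits CategoryTheory.Pretriangulated DerivedCategory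

attribute [local instance] HasDerivedCategory.standard

section Tri

variable {C : Type*} [Category C] [Preadditive C] [HasZeroObject C] [HasShift C ℤ]
  [∀ n : ℤ, (shiftFunctor C n).Additive] [Pretriangulated C]

theorem subsingleton_of_forall_eq_zero {X Y : C} (h : ∀ f : X ⟶ Y, f = 0) :
    Subsingleton (X ⟶ Y) := ⟨fun f g => by rw [h f, h g]⟩

/-- `Hom(T.obj₁, W) = 0` and `Hom(T.obj₃, W) = 0` imply `Hom(T.obj₂, W) = 0`. -/
theorem subsingleton_hom_obj₂ (T : Triangle C) (hT : T ∈ distTriang C) (W : C)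
    (h1 : Subsingleton (T.obj₁ ⟶ W)) (h3 : Subsingleton (T.obj₃ ⟶ W)) :
    Subsingleton (T.obj₂ ⟶ W) := by
  apply subsingleton_of_forall_eq_zero
  intro f
  obtain ⟨g, hg⟩ := Triangle.yoneda_exact₂ T hT f (h1.elim _ _)
  rw [hg, h3.elim g 0, comp_zero]

/-- If `Hom(T.obj₃, W⟦1⟧) = 0` then every `φ : T.obj₁ ⟶ W` extends along `T.mor₁`. -/
theorem exists_extension (T : Triangle C) (hT : T ∈ distTriang C) (W : C)
    (h3 : Subsingleton (T.obj₃ ⟶ W⟦(1 : ℤ)⟧)) (φ : T.obj₁ ⟶ W) :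
    ∃ ψ : T.obj₂ ⟶ W, φ = T.mor₁ ≫ ψ := by
  have hT' := rot_of_distTriang T hT
  obtain ⟨g, hg⟩ := Triangle.yoneda_exact₃ T.rotate hT' (φ⟦(1 : ℤ)⟧') (h3.elim _ _)
  obtain ⟨ψ, hψ⟩ : ∃ ψ : T.obj₂ ⟶ W, (shiftFunctor C (1 : ℤ)).map ψ = g :=
    (shiftFunctor C (1 : ℤ)).map_surjective g
  have hg' : (shiftFunctor C (1 : ℤ)).map φ =
      (-(shiftFunctor C (1 : ℤ)).map T.mor₁) ≫ (shiftFunctor C (1 : ℤ)).map ψ := by
    rw [hψ]
    exact hg
  refine ⟨-ψ, ?_⟩
  apply (shiftFunctor C (1 : ℤ)).map_injective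
  rw [hg', Functor.map_comp, Functor.map_neg, Preadditive.comp_neg, Preadditive.neg_comp]

/-- If `Hom(T.obj₂, W⟦1⟧) = 0` and `Hom(T.obj₁, W) = 0` then `Hom(T.obj₃, W⟦1⟧) = 0`. -/
theorem subsingleton_hom_obj₃_shift (T : Triangle C) (hT : T ∈ distTriang C) (W : C)
    (h2 : Subsingleton (T.obj₂ ⟶ W⟦(1 : ℤ)⟧)) (h1 : Subsingleton (T.obj₁ ⟶ W)) :
    Subsingleton (T.obj₃ ⟶ W⟦(1 : ℤ)⟧) := by
  apply subsingleton_of_forall_eq_zero
  intro f
  obtain ⟨g, hg⟩ := Triangle.yoneda_exact₃ T hT f (h2.elim _ _)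
  obtain ⟨ψ, rfl⟩ := (shiftFunctor C (1 : ℤ)).map_surjective g
  rw [hg, h1.elim ψ 0, Functor.map_zero, comp_zero]

theorem subsingleton_hom_obj₂' {X Y Z : C} (f : X ⟶ Y) (g : Y ⟶ Z) (δ : Z ⟶ X⟦(1 : ℤ)⟧)
    (hT : Triangle.mk f g δ ∈ distTriang C) (W : C)
    (h1 : Subsingleton (X ⟶ W)) (h3 : Subsingleton (Z ⟶ W)) : Subsingleton (Y ⟶ W) :=
  subsingleton_hom_obj₂ (Triangle.mk f g δ) hT W h1 h3

theorem exists_extension' {X Y Z : C} (f : X ⟶ Y) (g : Y ⟶ Z) (δ : Z ⟶ X⟦(1 : ℤ)⟧)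
    (hT : Triangle.mk f g δ ∈ distTriang C) (W : C)
    (h3 : Subsingleton (Z ⟶ W⟦(1 : ℤ)⟧)) (φ : X ⟶ W) : ∃ ψ : Y ⟶ W, φ = f ≫ ψ :=
  exists_extension (Triangle.mk f g δ) hT W h3 φ

theorem subsingleton_hom_obj₃_shift' {X Y Z : C} (f : X ⟶ Y) (g : Y ⟶ Z) (δ : Z ⟶ X⟦(1 : ℤ)⟧)
    (hT : Triangle.mk f g δ ∈ distTriang C) (W : C)
    (h2 : Subsingleton (Y ⟶ W⟦(1 : ℤ)⟧)) (h1 : Subsingleton (X ⟶ W)) :
    Subsingleton (Z ⟶ W⟦(1 : ℤ)⟧) :=
  subsingleton_hom_obj₃_shift (Triangle.mk f g δ) hT W h2 h1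

omit [Preadditive C] [HasShift C ℤ] [HasZeroObject C] [∀ n : ℤ, (shiftFunctor C n).Additive] [Pretriangulated C] in
theorem subsingleton_hom_of_iso_right {X W W' : C} (e : W ≅ W') (h : Subsingleton (X ⟶ W)) :
    Subsingleton (X ⟶ W') :=
  ⟨fun f g => by
    rw [← cancel_mono e.inv]
    exact h.elim _ _⟩

omit [Preadditive C] [HasShift C ℤ] [HasZeroObject C] [∀ n : ℤ, (shiftFunctor C n).Additive] [Pretriangulated C] in
theorem subsingleton_hom_of_iso_left {X X' W : C} (e : X ≅ X') (h : Subsingleton (X ⟶ W)) :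
    Subsingleton (X' ⟶ W) :=
  ⟨fun f g => by
    rw [← cancel_epi e.hom]
    exact h.elim _ _⟩

end Tri

variable {A : Type u} [CommRing A]

/-- `(ω⟦i⟧)⟦1⟧ ≅ ω⟦i+1⟧` -/
noncomputable def shiftSuccIso (ω : Dual.D A) (i : ℤ) : (ω⟦i⟧)⟦(1 : ℤ)⟧ ≅ ω⟦i + 1⟧ :=
  ((shiftFunctorAdd' (Dual.D A) i 1 (i + 1) rfl).app ω).symm

theorem subsingleton_hom_of_subsingleton (M : Type u) [AddCommGroup M] [Module A M]
    [Subsingleton M] (W : Dual.D A) : Subsingleton (Dual.inD A M ⟶ W) := by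
  have h0 : IsZero (Dual.inD A M) :=
    Functor.map_isZero (DerivedCategory.singleFunctor (ModuleCat.{u} A) 0)
      (ModuleCat.isZero_of_subsingleton _)
  exact ⟨fun f g => h0.eq_of_src f g⟩

section Noeth

variable [IsNoetherianRing A] (ω : Dual.D A) (hω : Dual.IsDualizing A ω)

include hω in
theorem hasFiniteInjDim : DRing.HasFiniteInjDim A ω := by
  obtain ⟨J, a, b, hJ, hz, ⟨e⟩⟩ := Groth.Agent.Lib.Helper25.Bidual.exists_bounded_injective_model ω hω
  refine ⟨a, b, J, hz, ?_, ⟨e⟩⟩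
  intro i
  exact (Module.injective_iff_injective_object A (J.X i)).mpr (hJ i)

include hω in
theorem finite_hom (M : Type u) [AddCommGroup M] [Module A M] [Module.Finite A M] (i : ℤ) :
    Module.Finite A (Dual.inD A M ⟶ ω⟦i⟧) :=
  Groth.Agent.S1746.result A (Dual.inD A M) ω
    (fun j => Groth.Agent.Lib.Helper68.DualBasic.finite_HD_single A M j)
    hω.finite_cohomology (hasFiniteInjDim ω hω) i

variable [IsLocalRing A]

include hω in
/-- the Nakayama step -/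
theorem subsingleton_hom_of_regular (M : Type u) [AddCommGroup M] [Module A M]
    [Module.Finite A M] (x : A) (hx : x ∈ IsLocalRing.maximalIdeal A)
    (hreg : IsSMulRegular M x) (i : ℤ)
    (h : Subsingleton (Dual.inD A (QuotSMulTop x M) ⟶ ω⟦i + 1⟧)) :
    Subsingleton (Dual.inD A M ⟶ ω⟦i⟧) := by
  have hS := IsSMulRegular.smulShortComplex_shortExact (M := ModuleCat.of A M) (r := x) hreg
  have hT := hS.singleTriangle_distinguished
  have hfin : Module.Finite A (Dual.inD A M ⟶ ω⟦i⟧) := finite_hom ω hω M i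
  have hm : (x • 𝟙 (Dual.inD A M) : Dual.inD A M ⟶ Dual.inD A M) =
      (singleFunctor (ModuleCat.{u} A) 0).map (x • 𝟙 (ModuleCat.of A M)) := by
    rw [Functor.map_smul, CategoryTheory.Functor.map_id]
  have hT2 : Triangle.mk (x • 𝟙 (Dual.inD A M))
      ((singleFunctor (ModuleCat.{u} A) 0).map (ModuleCat.smulShortComplex (ModuleCat.of A M) x).g)
      hS.singleδ ∈ distTriang (Dual.D A) := by
    rw [hm]
    exact hT
  have hsurj : ∀ φ : Dual.inD A M ⟶ ω⟦i⟧, ∃ ψ : Dual.inD A M ⟶ ω⟦i⟧, φ = x • ψ := by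
    intro φ
    have h3 : Subsingleton (Dual.inD A (QuotSMulTop x M) ⟶ (ω⟦i⟧)⟦(1 : ℤ)⟧) :=
      subsingleton_hom_of_iso_right (shiftSuccIso ω i).symm h
    obtain ⟨ψ, hψ⟩ := exists_extension' _ _ _ hT2 (ω⟦i⟧) h3 φ
    refine ⟨ψ, ?_⟩
    rw [hψ, Linear.smul_comp, Category.id_comp]
  have htop : (⊤ : Submodule A (Dual.inD A M ⟶ ω⟦i⟧)) ≤
      IsLocalRing.maximalIdeal A • (⊤ : Submodule A (Dual.inD A M ⟶ ω⟦i⟧)) := by
    intro φ _
    obtain ⟨ψ, rfl⟩ := hsurj φ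
    exact Submodule.smul_mem_smul hx trivial
  have hbot := Submodule.eq_bot_of_le_smul_of_le_jacobson_bot (IsLocalRing.maximalIdeal A)
    (⊤ : Submodule A (Dual.inD A M ⟶ ω⟦i⟧)) Module.Finite.fg_top htop
    (by rw [IsLocalRing.jacobson_eq_maximalIdeal ⊥ bot_ne_top])
  apply subsingleton_of_forall_eq_zero
  intro f
  have hf : f ∈ (⊤ : Submodule A (Dual.inD A M ⟶ ω⟦i⟧)) := trivial
  rw [hbot] at hf
  exact (Submodule.mem_bot A).1 hf

end Noeth

section Triangles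

/-- the distinguished triangle of multiplication by a regular element -/
theorem smul_triangle_distinguished (M : Type u) [AddCommGroup M] [Module A M] (x : A)
    (hreg : IsSMulRegular M x) :
    ∃ (g : Dual.inD A M ⟶ Dual.inD A (QuotSMulTop x M))
      (δ : Dual.inD A (QuotSMulTop x M) ⟶ (Dual.inD A M)⟦(1 : ℤ)⟧),
      Triangle.mk (x • 𝟙 (Dual.inD A M)) g δ ∈ distTriang (Dual.D A) := by
  have hS := IsSMulRegular.smulShortComplex_shortExact (M := ModuleCat.of A M) (r := x) hreg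
  have hT := hS.singleTriangle_distinguished
  have hm : (x • 𝟙 (Dual.inD A M) : Dual.inD A M ⟶ Dual.inD A M) =
      (singleFunctor (ModuleCat.{u} A) 0).map (x • 𝟙 (ModuleCat.of A M)) := by
    rw [Functor.map_smul, CategoryTheory.Functor.map_id]
  refine ⟨(singleFunctor (ModuleCat.{u} A) 0).map
    (ModuleCat.smulShortComplex (ModuleCat.of A M) x).g, hS.singleδ, ?_⟩
  rw [hm]
  exact hT

/-- the distinguished triangle of a short exact sequence of modules -/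
theorem ses_triangle_distinguished {N₁ N₂ N₃ : Type u} [AddCommGroup N₁] [Module A N₁]
    [AddCommGroup N₂] [Module A N₂] [AddCommGroup N₃] [Module A N₃]
    (f : N₁ →ₗ[A] N₂) (g : N₂ →ₗ[A] N₃) (hf : Function.Injective f)
    (hg : Function.Surjective g) (hfg : Function.Exact f g) :
    ∃ δ : Dual.inD A N₃ ⟶ (Dual.inD A N₁)⟦(1 : ℤ)⟧,
      Triangle.mk ((singleFunctor (ModuleCat.{u} A) 0).map (ModuleCat.ofHom f))
        ((singleFunctor (ModuleCat.{u} A) 0).map (ModuleCat.ofHom g)) δ ∈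
          distTriang (Dual.D A) := by
  have hS : (ShortComplex.mk (ModuleCat.ofHom f) (ModuleCat.ofHom g)
      (by ext x; simpa using hfg.apply_apply_eq_zero x)).ShortExact :=
    { exact := (ShortComplex.ShortExact.moduleCat_exact_iff_function_exact _).mpr hfg
      mono_f := (ModuleCat.mono_iff_injective _).mpr hf
      epi_g := (ModuleCat.epi_iff_surjective _).mpr hg }
  exact ⟨hS.singleδ, hS.singleTriangle_distinguished⟩

end Triangles

end Groth.Agent.Lib.Helper39.Dual
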