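import Groth.Agent.S0375

/-!
# Normalized dualizing complex of an Artinian local ring (repair file, lead)

`Lib/Helper39/Dual/FinLenDual.lean` (landed by helper39) uses a lemma `artinian_iso` which was never
landed. It is exactly the statement of the landed row `S0375` (with `ringKrullDim A = 0` replaced by
`IsArtinianRing A`), so it is re-derived here from `Groth.Agent.S0375.result`.
-/

set_option autoImplicit false
universe u

namespace Groth.Agent.Lib.Helper39.Dual.ArtIso

open CategoryTheory

theorem artinian_iso {A : Type u} [CommRing A] [IsLocalRing A] [IsNoetherianRing A]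
    [IsArtinianRing A] (ω : Dual.D A) (hω : Dual.IsDualizing A ω) (hn : Dual.IsNormalized A ω)
    (E : Type u) [AddCommGroup E] [Module A E] (f : IsLocalRing.ResidueField A →ₗ[A] E)
    (hf : InjHull.IsInjectiveHull f) : Nonempty (ω ≅ Dual.inD A E) := by
  haveI : Ring.KrullDimLE 0 A := isArtinianRing_iff_krullDimLE_zero.mp inferInstance
  have h0 : ringKrullDim A = 0 := ringKrullDimZero_iff_ringKrullDim_eq_zero.mp inferInstance
  exact Groth.Agent.S0375.result A h0 ω hω hn E f hf

end Groth.Agent.Lib.Helper39.Dual.ArtIso
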