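import Groth.Agent.Lib.Helper39.Dual.Basic

/-!
Depth of a finite module over a Noetherian local ring with a normalized dualizing complex `ω`
is the least `δ` with `Hom(M, ω[-δ]) ≠ 0`.
-/

set_option autoImplicit false
universe u

namespace Groth.Agent.Lib.Helper39.Dual

open CategoryTheory CategoryTheory.Limits CategoryTheory.Pretriangulated DerivedCategory
open Groth.Agent.Lib.Helper67

attribute [local instance] HasDerivedCategory.standard

theorem enat_le_of_succ_le {d' : ℕ∞} {k : ℕ} (h : ((k + 1 : ℕ) : ℕ∞) ≤ d' + 1) :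
    (k : ℕ∞) ≤ d' := by
  induction d' using ENat.recTopCoe with
  | top => exact le_top
  | coe n =>
    have h' : k + 1 ≤ n + 1 := by exact_mod_cast h
    exact_mod_cast (by omega : k ≤ n)

theorem enat_eq_of_succ_eq {d' : ℕ∞} {k : ℕ} (h : d' + 1 = ((k + 1 : ℕ) : ℕ∞)) : d' = k := by
  induction d' using ENat.recTopCoe with
  | top =>
    rw [top_add] at h
    exact absurd h (ENat.top_ne_coe _)
  | coe n =>
    have h' : n + 1 = k + 1 := by exact_mod_cast h
    exact_mod_cast (by omega : n = k)

variable {A : Type u} [CommRing A] [IsLocalRing A] [IsNoetherianRing A]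
  (ω : Dual.D A) (hω : Dual.IsDualizing A ω) (hn : Dual.IsNormalized A ω)

include hn in
theorem subsingleton_hom_residue (i : ℤ) (hi : i ≠ 0) :
    Subsingleton (Dual.inD A (A ⧸ IsLocalRing.maximalIdeal A) ⟶ ω⟦i⟧) :=
  hn i hi

include hω hn in
theorem nontrivial_hom_residue :
    Nontrivial (Dual.inD A (A ⧸ IsLocalRing.maximalIdeal A) ⟶ ω⟦(0 : ℤ)⟧) := by
  obtain ⟨n, _, ⟨e⟩⟩ := Groth.Agent.Lib.Helper25.Bidual.residue_main (IsLocalRing.maximalIdeal A) ω hω
  have hnt : Nontrivial (A ⧸ IsLocalRing.maximalIdeal A) :=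
    Ideal.Quotient.nontrivial_iff.mpr (IsLocalRing.maximalIdeal.isMaximal A).ne_top
  by_cases h0 : n = 0
  · subst h0
    exact e.toEquiv.nontrivial
  · exfalso
    have := subsingleton_hom_residue ω hn n h0
    have : Subsingleton (A ⧸ IsLocalRing.maximalIdeal A) := e.symm.toEquiv.subsingleton
    exact not_subsingleton _ this

/-- the vanishing property in degree `i` -/
def VanProp (i : ℤ) : Prop :=
  ∀ (M : Type u) [AddCommGroup M] [Module A M] [Module.Finite A M] (k : ℕ),
    (k : ℕ∞) ≤ LocCoh.depth A M → -(k : ℤ) < i → Subsingleton (Dual.inD A M ⟶ ω⟦i⟧)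

include hω hn in
theorem subsingleton_hom_of_pos (i : ℤ) (hi : 0 < i) (h : VanProp ω (i + 1))
    (M : Type u) [AddCommGroup M] [Module A M] [hM : Module.Finite A M] :
    Subsingleton (Dual.inD A M ⟶ ω⟦i⟧) := by
  induction hM using IsNoetherianRing.induction_on_isQuotientEquivQuotientPrime A with
  | subsingleton N => exact subsingleton_hom_of_subsingleton N _
  | quotient N p f =>
    apply Groth.Agent.Lib.Helper25.LocDual.subsingleton_hom_of_linearEquiv _ f
    by_cases hp : p.asIdeal = IsLocalRing.maximalIdeal A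
    · apply Groth.Agent.Lib.Helper25.LocDual.subsingleton_hom_of_linearEquiv _
        (Submodule.quotEquivOfEq _ _ hp)
      exact subsingleton_hom_residue ω hn i hi.ne'
    · obtain ⟨x, hx, hxp⟩ : ∃ x ∈ IsLocalRing.maximalIdeal A, x ∉ p.asIdeal := by
        by_contra hcon
        push Not at hcon
        exact hp (le_antisymm (IsLocalRing.le_maximalIdeal p.2.ne_top) hcon)
      have hdom : IsDomain (A ⧸ p.asIdeal) := Ideal.Quotient.isDomain p.asIdeal
      have hreg : IsSMulRegular (A ⧸ p.asIdeal) x := by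
        intro a b hab
        have hx0 : (Ideal.Quotient.mk p.asIdeal x) ≠ 0 := by
          rwa [Ne, Ideal.Quotient.eq_zero_iff_mem]
        have h1 : Ideal.Quotient.mk p.asIdeal x * a = Ideal.Quotient.mk p.asIdeal x * b := by
          have := hab
          simpa [Algebra.smul_def] using this
        exact mul_left_cancel₀ hx0 h1
      apply subsingleton_hom_of_regular ω hω (A ⧸ p.asIdeal) x hx hreg i
      exact h (QuotSMulTop x (A ⧸ p.asIdeal)) 0 (by simp) (by simpa using by omega)
  | exact N₁ N₂ N₃ f g hf hg hfg h₁ h₃ =>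
    obtain ⟨δ, hT⟩ := ses_triangle_distinguished f g hf hg hfg
    exact subsingleton_hom_obj₂' _ _ _ hT _ h₁ h₃

include hω hn in
theorem vanProp_step (i : ℤ) (h : VanProp ω (i + 1)) : VanProp ω i := by
  intro M _ _ _ k hk hi
  by_cases hsub : Subsingleton M
  · exact subsingleton_hom_of_subsingleton M _
  have hnt : Nontrivial M := not_subsingleton_iff_nontrivial.mp hsub
  rcases k with _ | k'
  · exact subsingleton_hom_of_pos ω hω hn i (by simpa using hi) h M
  · have h1 : (1 : ℕ∞) ≤ LocCoh.depth A M := by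
      refine le_trans ?_ hk
      exact_mod_cast Nat.succ_le_succ (Nat.zero_le k')
    rcases (one_le_idealDepth_iff (IsLocalRing.maximalIdeal A) M).1 h1 with htop | ⟨x, hx, hreg⟩
    · exact absurd htop (maximalIdeal_smul_top_ne_top M)
    · have hd := idealDepth_quotSMulTop_add_one (IsLocalRing.maximalIdeal A) M
        (maximalIdeal_smul_top_ne_top M) x hx hreg
      have hk' : (k' : ℕ∞) ≤ LocCoh.depth A (QuotSMulTop x M) := by
        apply enat_le_of_succ_le
        change _ ≤ LocCoh.idealDepth (IsLocalRing.maximalIdeal A) (QuotSMulTop x M) + 1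
        rw [hd]
        exact hk
      apply subsingleton_hom_of_regular ω hω M x hx hreg i
      apply h (QuotSMulTop x M) k' hk'
      push_cast at hi ⊢
      omega

include hω hn in
theorem vanProp (i : ℤ) : VanProp ω i := by
  obtain ⟨a, b, hab⟩ := hω.finite_injective_dimension
  suffices H : ∀ (j : ℕ) (i : ℤ), b + 1 - j ≤ i → VanProp ω i from
    H (b + 1 - i).toNat i (by omega)
  intro j
  induction j with
  | zero =>
    intro i hi M _ _ _ k _ _
    exact hab M i (Or.inr (by push_cast at hi; omega))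
  | succ j ih =>
    intro i hi
    apply vanProp_step ω hω hn i
    apply ih
    push_cast at hi
    omega

include hω hn in
theorem nontrivial_hom_of_depth_eq : ∀ (k : ℕ) (M : Type u) [AddCommGroup M] [Module A M]
    [Module.Finite A M] [Nontrivial M], LocCoh.depth A M = k →
    Nontrivial (Dual.inD A M ⟶ ω⟦(-(k : ℤ))⟧) := by
  intro k
  induction k with
  | zero =>
    intro M _ _ _ _ hd
    rw [show (-((0 : ℕ) : ℤ)) = 0 by simp]
    have hass : IsLocalRing.maximalIdeal A ∈ associatedPrimes A M :=
      (depth_eq_zero_iff M).1 (by simpa using hd)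
    obtain ⟨_, y, hy⟩ := (isAssociatedPrime_iff (I := IsLocalRing.maximalIdeal A) (M := M)).1 hass
    have hker : LinearMap.ker (LinearMap.toSpanSingleton A M y) = IsLocalRing.maximalIdeal A := by
      ext r
      rw [hy, LinearMap.mem_ker, LinearMap.toSpanSingleton_apply, Submodule.mem_colon_singleton,
        Submodule.mem_bot]
    let ι : (A ⧸ IsLocalRing.maximalIdeal A) →ₗ[A] M :=
      Submodule.liftQ (IsLocalRing.maximalIdeal A) (LinearMap.toSpanSingleton A M y) hker.ge
    have hι : Function.Injective ι := by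
      rw [← LinearMap.ker_eq_bot]
      exact Submodule.ker_liftQ_eq_bot _ _ _ hker.le
    obtain ⟨δ, hT⟩ := ses_triangle_distinguished ι (LinearMap.range ι).mkQ hι
      (Submodule.mkQ_surjective _) (LinearMap.exact_map_mkQ_range ι)
    have hntr := nontrivial_hom_residue ω hω hn
    obtain ⟨φ, hφ⟩ := exists_ne (0 : Dual.inD A (A ⧸ IsLocalRing.maximalIdeal A) ⟶ ω⟦(0 : ℤ)⟧)
    have h3 : Subsingleton (Dual.inD A (M ⧸ LinearMap.range ι) ⟶ (ω⟦(0 : ℤ)⟧)⟦(1 : ℤ)⟧) := by
      apply subsingleton_hom_of_iso_right (shiftSuccIso ω 0).symm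
      exact vanProp ω hω hn (0 + 1) (M ⧸ LinearMap.range ι) 0 (by simp) (by simp)
    obtain ⟨ψ, hψ⟩ := exists_extension' _ _ _ hT (ω⟦(0 : ℤ)⟧) h3 φ
    refine ⟨ψ, 0, ?_⟩
    intro h0
    rw [h0, comp_zero] at hψ
    exact hφ hψ
  | succ k ih =>
    intro M _ _ _ _ hd
    have h1 : (1 : ℕ∞) ≤ LocCoh.depth A M := by
      rw [hd]
      exact_mod_cast Nat.succ_le_succ (Nat.zero_le k)
    rcases (one_le_idealDepth_iff (IsLocalRing.maximalIdeal A) M).1 h1 with htop | ⟨x, hx, hreg⟩
    · exact absurd htop (maximalIdeal_smul_top_ne_top M)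
    · have hd' := idealDepth_quotSMulTop_add_one (IsLocalRing.maximalIdeal A) M
        (maximalIdeal_smul_top_ne_top M) x hx hreg
      have hdq : LocCoh.depth A (QuotSMulTop x M) = k := by
        apply enat_eq_of_succ_eq
        change LocCoh.idealDepth (IsLocalRing.maximalIdeal A) (QuotSMulTop x M) + 1 = _
        rw [hd']
        exact hd
      have hntq : Nontrivial (QuotSMulTop x M) := by
        by_contra hcon
        rw [not_nontrivial_iff_subsingleton] at hcon
        exact smul_top_quotSMulTop_ne_top hx (maximalIdeal_smul_top_ne_top M)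
          (Subsingleton.elim _ _)
      have hih := ih (QuotSMulTop x M) hdq
      obtain ⟨g, δ, hT⟩ := smul_triangle_distinguished M x hreg
      by_contra hcon
      rw [not_nontrivial_iff_subsingleton] at hcon
      have e1 : -(((k + 1 : ℕ) : ℤ)) + 1 = -(k : ℤ) := by
        push_cast
        ring
      have h2 : Subsingleton (Dual.inD A M ⟶ (ω⟦(-(((k + 1 : ℕ) : ℤ)))⟧)⟦(1 : ℤ)⟧) := by
        apply subsingleton_hom_of_iso_right (shiftSuccIso ω _).symm
        apply vanProp ω hω hn _ M (k + 1) (le_of_eq hd.symm)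
        omega
      have h3 := subsingleton_hom_obj₃_shift' _ _ _ hT _ h2 hcon
      have h4 : Subsingleton (Dual.inD A (QuotSMulTop x M) ⟶ ω⟦(-(((k + 1 : ℕ) : ℤ))) + 1⟧) :=
        subsingleton_hom_of_iso_right (shiftSuccIso ω _) h3
      rw [e1] at h4
      exact not_subsingleton _ h4

end Groth.Agent.Lib.Helper39.Dual
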