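import Groth.Agent.Lib.Helper25.Bidual.DD
import Groth.Agent.Lib.Helper25.LocDual.SingleP

/-!
# The cohomology of `Hom(N, J)` computes `Hom_{D(A)}(N, J⟦q⟧)` (helper39)
-/

set_option autoImplicit false
universe u

namespace Groth.Agent.Lib.Helper39.Dual.DpHom

open CategoryTheory CategoryTheory.Limits CochainComplex CochainComplex.HomComplex DerivedCategory
open Groth.Agent.Lib.Helper25.Bidual Groth.Agent.Lib.Helper25.LocDual
open Groth.Agent.Lib.Helper25.LocColim

attribute [local instance] HasDerivedCategory.standard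

variable {A : Type u} [CommRing A] (J : DRing.Cx A)

theorem phiP_add {p n q : ℤ} (h : p + n = q) {M : ModuleCat.{u} A} (f g : M ⟶ J.X q)
    (hf : f ≫ J.d q (q + 1) = 0) (hg : g ≫ J.d q (q + 1) = 0) :
    phiP J h (f + g) (by rw [Preadditive.add_comp, hf, hg, add_zero]) =
      phiP J h f hf + phiP J h g hg := by
  unfold phiP
  rw [← map_add, ← CohomologyClass.mk_add, Cocycle.fromSingleMk_add f g h (q + 1) rfl hf hg]

variable (N : ModuleCat.{u} A) (q : ℤ)

/-- the short complex computing the cohomology of `Hom(N, J)` in degree `q` -/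
noncomputable abbrev SC : ShortComplex (ModuleCat.{u} A) := (Dp J N).sc' (q - 1) q (q + 1)

theorem cocycle_of_mem (z : (Dp J N).X q) (hz : ((Dp J N).d q (q + 1)).hom z = 0) :
    ModuleCat.ofHom (X := N) (Y := J.X q) (show N →ₗ[A] J.X q from z) ≫ J.d q (q + 1) = 0 := by
  ext x
  have := LinearMap.congr_fun (show (show N →ₗ[A] J.X (q + 1) from
    ((Dp J N).d q (q + 1)).hom z) = 0 from hz) x
  rw [Dp_d_apply] at this
  exact this

/-- cocycles of `Hom(N, J)` give morphisms in the derived category -/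
noncomputable def Phi : LinearMap.ker (SC J N q).g.hom →ₗ[A]
    (Q.obj (sglP 0 N) ⟶ (Q.obj J)⟦q⟧) where
  toFun z := phiP J (zero_add q) (ModuleCat.ofHom (X := N) (Y := J.X q)
    (show N →ₗ[A] J.X q from z.1)) (cocycle_of_mem J N q z.1 z.2)
  map_add' z z' := by
    rw [← phiP_add]
    rfl
  map_smul' a z := by
    rw [RingHom.id_apply, smul_phiP]
    rfl

variable [J.IsKInjective]

theorem Phi_surjective : Function.Surjective (Phi J N q) := by
  intro y
  obtain ⟨f, hf, rfl⟩ := exists_repP J (zero_add q) y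
  refine ⟨⟨(show (Dp J N).X q from f.hom), ?_⟩, ?_⟩
  · rw [LinearMap.mem_ker]
    change ((Dp J N).d q (q + 1)).hom f.hom = 0
    refine LinearMap.ext fun x => ?_
    rw [Dp_d_apply]
    exact ConcreteCategory.congr_hom hf x
  · rfl

theorem Phi_ker : LinearMap.ker (Phi J N q) = LinearMap.range (SC J N q).moduleCatToCycles := by
  ext z
  rw [LinearMap.mem_ker, LinearMap.mem_range]
  change phiP J (zero_add q) _ _ = 0 ↔ _
  rw [phiP_eq_zero_iff]
  constructor
  · rintro ⟨g, hg⟩
    refine ⟨(show (Dp J N).X (q - 1) from g.hom), Subtype.ext ?_⟩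
    change ((Dp J N).d (q - 1) q).hom g.hom = z.1
    refine LinearMap.ext fun x => ?_
    rw [Dp_d_apply]
    exact ConcreteCategory.congr_hom hg x
  · rintro ⟨g, hg⟩
    refine ⟨ModuleCat.ofHom (X := N) (Y := J.X (q - 1)) (show N →ₗ[A] J.X (q - 1) from g), ?_⟩
    ext x
    have h1 : ((Dp J N).d (q - 1) q).hom g = z.1 := congrArg Subtype.val hg
    have := LinearMap.congr_fun (show (show N →ₗ[A] J.X q from
      ((Dp J N).d (q - 1) q).hom g) = (show N →ₗ[A] J.X q from z.1) from h1) x
    rw [Dp_d_apply] at this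
    exact this

/-- `H^q(Hom(N, J)) ≃ Hom_{D(A)}(N, J⟦q⟧)` -/
noncomputable def homologyEquiv :
    ((Dp J N).homology q) ≃ₗ[A] (Q.obj (sglP 0 N) ⟶ (Q.obj J)⟦q⟧) :=
  ((Dp J N).homologyIsoSc' (q - 1) q (q + 1) (by simp) (by simp) ≪≫
    (SC J N q).moduleCatHomologyIso).toLinearEquiv.trans
    ((Submodule.quotEquivOfEq _ _ (Phi_ker J N q).symm).trans
      ((Phi J N q).quotKerEquivOfSurjective (Phi_surjective J N q)))

end Groth.Agent.Lib.Helper39.Dual.DpHom
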