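import Groth.Agent.Lib.Helper39.Dual.PolyDual
import Groth.Agent.Lib.Helper25.LocDual.Main
import Groth.Agent.Lib.Helper25.Bidual.RightAdj

/-!
# Existence of dualizing complexes for algebras essentially of finite type (helper39)
-/

set_option autoImplicit false
universe u

namespace Groth.Agent.Lib.Helper39.Dual.EssFT

open CategoryTheory CategoryTheory.Limits DerivedCategory
open Groth.Agent.Lib.Helper25.Bidual Groth.Agent.Lib.Helper25.LocDual
open scoped Polynomial

attribute [local instance] HasDerivedCategory.standard

/-- existence of a dualizing complex -/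
def HasDual (R : Type u) [CommRing R] : Prop := ∃ ω : Dual.D R, Dual.IsDualizing R ω

variable {R S : Type u} [CommRing R] [CommRing S]

theorem hasDual_of_finite [IsNoetherianRing R] [IsNoetherianRing S] (φ : R →+* S)
    (hφ : φ.Finite) (h : HasDual R) : HasDual S := by
  obtain ⟨ω, hω⟩ := h
  exact ⟨_, isDualizing_rightAdjoint φ hφ (Adjunction.ofIsLeftAdjoint (DRing.restrictD φ)) ω hω⟩

theorem hasDual_of_surjective [IsNoetherianRing R] (φ : R →+* S) (hφ : Function.Surjective φ)
    (h : HasDual R) : HasDual S :=
  haveI : IsNoetherianRing S := isNoetherianRing_of_surjective R S φ hφ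
  hasDual_of_finite φ (RingHom.Finite.of_surjective φ hφ) h

theorem hasDual_of_ringEquiv [IsNoetherianRing R] (e : R ≃+* S) (h : HasDual R) : HasDual S :=
  hasDual_of_surjective e.toRingHom e.surjective h

theorem hasDual_polynomial [IsNoetherianRing R] (h : HasDual R) : HasDual R[X] := by
  obtain ⟨ω, hω⟩ := h
  exact ⟨_, PolyDual.isDualizing_LBaseChange_polynomial R ω hω⟩

theorem hasDual_mvPolynomial [IsNoetherianRing R] (h : HasDual R) (n : ℕ) :
    HasDual (MvPolynomial (Fin n) R) := by
  induction n with
  | zero => exact hasDual_of_ringEquiv (MvPolynomial.isEmptyAlgEquiv R (Fin 0)).symm.toRingEquiv h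
  | succ n ih =>
    exact hasDual_of_ringEquiv (MvPolynomial.finSuccEquiv R n).symm.toRingEquiv
      (hasDual_polynomial ih)

theorem hasDual_of_finiteType [IsNoetherianRing R] (h : HasDual R) [Algebra R S]
    [Algebra.FiniteType R S] : HasDual S := by
  obtain ⟨n, f, hf⟩ := Algebra.FiniteType.iff_quotient_mvPolynomial''.1
    (inferInstance : Algebra.FiniteType R S)
  exact hasDual_of_surjective f.toRingHom hf (hasDual_mvPolynomial h n)

theorem hasDual_of_isLocalization [IsNoetherianRing R] (M : Submonoid R) [Algebra R S]
    [IsLocalization M S] (h : HasDual R) : HasDual S := by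
  obtain ⟨ω, hω⟩ := h
  have hloc : @IsLocalization R _ M S _ (algebraMap R S).toAlgebra := by
    have h : (algebraMap R S).toAlgebra = (inferInstance : Algebra R S) :=
      Algebra.algebra_ext _ _ (fun _ => rfl)
    rw [h]
    infer_instance
  exact ⟨_, Groth.Agent.Lib.Helper25.LocDual.main (algebraMap R S) M hloc ω hω⟩

theorem hasDual_of_essFiniteType [IsNoetherianRing R] (h : HasDual R) [Algebra R S]
    [Algebra.EssFiniteType R S] : HasDual S := by
  have h0 : HasDual (Algebra.EssFiniteType.subalgebra R S) := hasDual_of_finiteType h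
  haveI : IsNoetherianRing (Algebra.EssFiniteType.subalgebra R S) :=
    Algebra.FiniteType.isNoetherianRing R _
  exact hasDual_of_isLocalization (Algebra.EssFiniteType.submonoid R S) h0

end Groth.Agent.Lib.Helper39.Dual.EssFT
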