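import Groth.Agent.Lib.Helper39.Dual.ArtDual
import Groth.Agent.Lib.Helper25.Bidual.Normalized
import Groth.Agent.Lib.Helper25.TrivDual
import Groth.Agent.Lib.Helper15.FinLenEquiv
import Groth.Agent.S5157
import Groth.Agent.Lib.Helper39.Dual.ArtIso

/-!
`Hom_{D(A)}(N, ω) ≃ Hom_A(N, E)` for `N` of finite length, `ω` a normalized dualizing complex.
-/

set_option autoImplicit false
universe u

namespace Groth.Agent.Lib.Helper39.Dual

open CategoryTheory CategoryTheory.Limits CategoryTheory.Pretriangulated DerivedCategory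

attribute [local instance] HasDerivedCategory.standard

section BSide

variable {B : Type u} [CommRing B]

/-- `Hom_B(N, T) ≃ Hom_{D(B)}(N[0], T[0])` -/
noncomputable def homSingleEquiv (N T : Type u) [AddCommGroup N] [Module B N] [AddCommGroup T]
    [Module B T] : (N →ₗ[B] T) ≃ₗ[B] (Dual.inD B N ⟶ Dual.inD B T) :=
  (ModuleCat.homLinearEquiv (S := B) (M := ModuleCat.of B N) (N := ModuleCat.of B T)).symm.trans
    (LinearEquiv.ofBijective ((singleFunctor (ModuleCat.{u} B) 0).mapLinearMap B)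
      ⟨(singleFunctor (ModuleCat.{u} B) 0).map_injective,
        (singleFunctor (ModuleCat.{u} B) 0).map_surjective⟩)

end BSide

section Main

variable {A : Type u} [CommRing A] [IsLocalRing A] [IsNoetherianRing A]
  (ω : Dual.D A) (hω : Dual.IsDualizing A ω) (hn : Dual.IsNormalized A ω)

/-- the `A`-linear equivalence `Hom_A(N, E) ≃ Hom_B(N, E[a])` for `N` killed by `a`, `B = A/a` -/
noncomputable def torsionHomEquiv (a : Ideal A) (N E : Type u) [AddCommGroup N] [Module A N]
    [AddCommGroup E] [Module A E] [Module (A ⧸ a) N] [IsScalarTower A (A ⧸ a) N]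
    (hkill : ∀ r ∈ a, ∀ x : N, r • x = 0) :
    (N →ₗ[A] E) ≃ₗ[A] (N →ₗ[A ⧸ a] (LocCoh.torsionBy a E)) :=
  (LinearEquiv.ofBijective
    ({ toFun := fun g => LinearMap.codRestrict (LocCoh.torsionBy a E) g (fun x => by
          rw [Submodule.mem_torsionBySet_iff]
          intro r
          rw [← map_smul, hkill r.1 r.2 x, map_zero])
       map_add' := fun g g' => rfl
       map_smul' := fun r g => rfl } :
      (N →ₗ[A] E) →ₗ[A] (N →ₗ[A] (LocCoh.torsionBy a E)))
    ⟨fun g g' h => by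
        ext x
        have := congrArg (fun l => ((l x : LocCoh.torsionBy a E) : E)) h
        exact this,
      fun l => ⟨(LocCoh.torsionBy a E).subtype ∘ₗ l, by
        ext x
        rfl⟩⟩).trans
    (LinearMap.extendScalarsOfSurjectiveEquiv (R := A) (S := A ⧸ a) (M := N)
      (N := LocCoh.torsionBy a E) Ideal.Quotient.mk_surjective)

include hω hn in
theorem finLen_main (N : Type u) [AddCommGroup N] [Module A N] (hN : IsFiniteLength A N)
    (E : Type u) [AddCommGroup E] [Module A E]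
    (f : IsLocalRing.ResidueField A →ₗ[A] E) (hf : InjHull.IsInjectiveHull f) :
    Nonempty ((Dual.inD A N ⟶ ω) ≃ₗ[A] (N →ₗ[A] E)) := by
  obtain ⟨n, hkill0⟩ := Groth.Agent.Lib.Helper15.FinLenEquiv.exists_kills (A := A)
    ⟨ModuleCat.of A N, hN⟩
  have hkill : ∀ r ∈ IsLocalRing.maximalIdeal A ^ (n + 1), ∀ x : N, r • x = 0 := hkill0
  obtain ⟨a, ha⟩ : ∃ a : Ideal A, a = IsLocalRing.maximalIdeal A ^ (n + 1) := ⟨_, rfl⟩
  rw [← ha] at hkill
  have ha_le : a ≤ IsLocalRing.maximalIdeal A := ha ▸ Ideal.pow_le_self (by omega)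
  have ha_ne : a ≠ ⊤ := fun h =>
    (IsLocalRing.maximalIdeal.isMaximal A).ne_top (top_le_iff.mp (h ▸ ha_le))
  haveI : Nontrivial (A ⧸ a) := Ideal.Quotient.nontrivial_iff.mpr ha_ne
  haveI : IsLocalRing (A ⧸ a) :=
    IsLocalRing.of_surjective' (Ideal.Quotient.mk a) Ideal.Quotient.mk_surjective
  haveI : IsLocalHom (algebraMap A (A ⧸ a)) :=
    IsLocalHom.of_surjective (Ideal.Quotient.mk a) Ideal.Quotient.mk_surjective
  haveI : IsArtinianRing (A ⧸ a) := by
    apply IsLocalRing.quotient_artinian_of_mem_minimalPrimes_of_isLocalRing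
    rw [ha]
    refine ⟨⟨inferInstance, Ideal.pow_le_self (by omega)⟩, ?_⟩
    rintro q ⟨hq, hq'⟩ _
    exact hq.le_of_pow_le hq'
  -- `N` as a module over `B = A/a`
  have htors : Module.IsTorsionBySet A N (a : Set A) := by
    intro x r
    exact hkill r.1 r.2 x
  letI : Module (A ⧸ a) N := htors.module
  haveI : IsScalarTower A (A ⧸ a) N := htors.isScalarTower
  -- the right adjoint
  let π : A →+* A ⧸ a := algebraMap A (A ⧸ a)
  let R := (DRing.restrictD π).rightAdjoint
  let adj : DRing.restrictD π ⊣ R := Adjunction.ofIsLeftAdjoint _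
  have hπ : π.Finite := RingHom.Finite.of_surjective π Ideal.Quotient.mk_surjective
  have hRd : Dual.IsDualizing (A ⧸ a) (R.obj ω) :=
    Groth.Agent.Lib.Helper25.Bidual.isDualizing_rightAdjoint π hπ adj ω hω
  have hRn : Dual.IsNormalized (A ⧸ a) (R.obj ω) :=
    Groth.Agent.Lib.Helper25.Bidual.isNormalized_rightAdjoint adj ω hn
  obtain ⟨g, hg⟩ := Groth.Agent.S5157.result A a E f hf
  obtain ⟨θ⟩ := ArtIso.artinian_iso (R.obj ω) hRd hRn (LocCoh.torsionBy a E) g hg
  -- the chain of equivalences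
  let e1 := torsionHomEquiv a N E hkill
  let e2 := homSingleEquiv (B := A ⧸ a) N (LocCoh.torsionBy a E)
  let e3 : (Dual.inD (A ⧸ a) N ⟶ Dual.inD (A ⧸ a) (LocCoh.torsionBy a E)) ≃ₗ[A ⧸ a]
      (Dual.inD (A ⧸ a) N ⟶ R.obj ω) :=
    Linear.homCongr (A ⧸ a) (Iso.refl (Dual.inD (A ⧸ a) N)) θ.symm
  letI instC : Module A (Dual.inD (A ⧸ a) N ⟶ R.obj ω) := Module.compHom _ π
  let e4 : (Dual.inD (A ⧸ a) N ⟶ R.obj ω) ≃ₗ[A]
      ((DRing.restrictD π).obj (Dual.inD (A ⧸ a) N) ⟶ ω) :=
    Groth.Agent.Lib.Helper25.TrivDual.adjLinearEquiv R adj (Dual.inD (A ⧸ a) N) ω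
  let l : ((ModuleCat.restrictScalars.{u} π).obj (ModuleCat.of (A ⧸ a) N) : ModuleCat.{u} A)
      ≃ₗ[A] N :=
    { toFun := fun x => x
      invFun := fun x => x
      left_inv := fun _ => rfl
      right_inv := fun _ => rfl
      map_add' := fun _ _ => rfl
      map_smul' := fun r (x : N) => by
        change algebraMap A (A ⧸ a) r • x = r • x
        rw [algebraMap_smul] }
  let ι : (DRing.restrictD π).obj (Dual.inD (A ⧸ a) N) ≅ Dual.inD A N :=
    Groth.Agent.Lib.Helper25.Bidual.resSingleIso π (ModuleCat.of (A ⧸ a) N) ≪≫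
      (singleFunctor (ModuleCat.{u} A) 0).mapIso l.toModuleIso
  let e5 : ((DRing.restrictD π).obj (Dual.inD (A ⧸ a) N) ⟶ ω) ≃ₗ[A] (Dual.inD A N ⟶ ω) :=
    Linear.homCongr A ι (Iso.refl ω)
  have hsm : ∀ (r : A) (h : N →ₗ[A ⧸ a] (LocCoh.torsionBy a E)), r • h = π r • h := by
    intro r h
    ext x
    change ((r • h x : LocCoh.torsionBy a E) : E) = ((π r • h x : LocCoh.torsionBy a E) : E)
    rw [algebraMap_smul]
  have h4 : ∀ (r : A) (k : Dual.inD (A ⧸ a) N ⟶ R.obj ω), e4 (π r • k) = r • e4 k :=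
    fun r k => e4.map_smul r k
  let Ψ : (N →ₗ[A] E) →ₗ[A] (Dual.inD A N ⟶ ω) :=
    { toFun := fun g => e5 (e4 (e3 (e2 (e1 g))))
      map_add' := fun g g' => by
        rw [map_add, map_add, map_add, map_add, map_add]
      map_smul' := fun r g => by
        rw [map_smul, hsm, map_smul, map_smul, h4, map_smul]
        rfl }
  have hΨ : Function.Bijective Ψ :=
    e5.bijective.comp (e4.bijective.comp (e3.bijective.comp (e2.bijective.comp e1.bijective)))
  exact ⟨(LinearEquiv.ofBijective Ψ hΨ).symm⟩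

end Main

end Groth.Agent.Lib.Helper39.Dual
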