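import Mathlib
import Groth.Agent.Lib.Helper84.BassPapp
import Groth.Agent.Lib.Helper84.DRingInj

/-!
# Extension of scalars along a free ring map, viewed over the base (helper39)

For `φ : A →+* B` making `B` a free `A`-module with basis `b`, the functor
`T N = B ⊗_A N` (as an `A`-module) comes with natural maps `lam p : N ⟶ T N` (`x ↦ p ⊗ x`),
`prn m : T N ⟶ N` (the `m`-th coordinate) and `mu p : T N ⟶ T N` (multiplication by `p`).
-/

set_option autoImplicit false
universe u

namespace Groth.Agent.Lib.Helper39.Dual.FreeExt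

open CategoryTheory TensorProduct

variable {A B : Type u} [CommRing A] [CommRing B] (φ : A →+* B)

/-- `N ↦ B ⊗_A N` as an `A`-module -/
noncomputable abbrev T : ModuleCat.{u} A ⥤ ModuleCat.{u} A :=
  ModuleCat.extendScalars.{u, u, u} φ ⋙ ModuleCat.restrictScalars.{u} φ

/-- the identity, as an `A`-linear equivalence to the tensor product -/
noncomputable def tEquiv (N : ModuleCat.{u} A) :
    letI := φ.toAlgebra
    ((T φ).obj N) ≃ₗ[A] (B ⊗[A] N) :=
  letI := φ.toAlgebra
  { toFun := fun x => x
    invFun := fun x => x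
    left_inv := fun _ => rfl
    right_inv := fun _ => rfl
    map_add' := fun _ _ => rfl
    map_smul' := fun a x =>
      algebraMap_smul B a (show B ⊗[A] N from x) }


theorem tEquiv_apply (N : ModuleCat.{u} A) (x : (T φ).obj N) :
    letI := φ.toAlgebra
    tEquiv φ N x = (show B ⊗[A] N from x) := rfl

variable {ι : Type} [DecidableEq ι] (b : @Module.Basis ι A B _ _ φ.toAlgebra.toModule)

/-- coordinates: `B ⊗_A N ≃ ι →₀ N` -/
noncomputable def coordEquiv (N : ModuleCat.{u} A) : ((T φ).obj N) ≃ₗ[A] (ι →₀ N) :=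
  letI := φ.toAlgebra
  (tEquiv φ N).trans
    ((TensorProduct.congr b.repr (LinearEquiv.refl A N)).trans
      (TensorProduct.finsuppScalarLeft A N ι))

/-- the pure tensor `p ⊗ x` as an element of `T N` -/
noncomputable def tmulT (N : ModuleCat.{u} A) (p : B) (x : N) : (T φ).obj N :=
  letI := φ.toAlgebra
  (tEquiv φ N).symm (p ⊗ₜ[A] x)

/-- the coordinates of `p : B` in the basis `b` -/
noncomputable def coord (p : B) (m : ι) : A :=
  letI := φ.toAlgebra
  b.repr p m

theorem coordEquiv_tmulT (N : ModuleCat.{u} A) (p : B) (x : N) (m : ι) :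
    coordEquiv φ b N (tmulT φ N p x) m = (coord φ b p m) • x := by
  letI := φ.toAlgebra
  unfold coordEquiv tmulT
  simp only [LinearEquiv.trans_apply, LinearEquiv.apply_symm_apply, TensorProduct.congr_tmul,
    LinearEquiv.refl_apply]
  exact TensorProduct.finsuppScalarLeft_apply_tmul_apply _ _ _

/-- induction principle for `T N` -/
theorem induction_T (N : ModuleCat.{u} A) {P : (T φ).obj N → Prop}
    (h0 : P 0) (ht : ∀ p x, P (tmulT φ N p x)) (ha : ∀ t t', P t → P t' → P (t + t'))
    (t : (T φ).obj N) : P t := by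
  letI := φ.toAlgebra
  have h : ∀ y : B ⊗[A] N, P ((tEquiv φ N).symm y) := by
    intro y
    induction y using TensorProduct.induction_on with
    | zero => rw [map_zero]; exact h0
    | tmul p x => exact ht p x
    | add y y' hy hy' => rw [map_add]; exact ha _ _ hy hy'
  have := h (tEquiv φ N t)
  rwa [LinearEquiv.symm_apply_apply] at this


theorem T_map_tmulT {N N' : ModuleCat.{u} A} (f : N ⟶ N') (p : B) (x : N) :
    (T φ).map f (tmulT φ N p x) = tmulT φ N' p (f x) := rfl

/-- `x ↦ p ⊗ x` -/
noncomputable def lam (p : B) (N : ModuleCat.{u} A) : N ⟶ (T φ).obj N :=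
  letI := φ.toAlgebra
  ModuleCat.ofHom (X := N) (Y := (T φ).obj N)
    ((tEquiv φ N).symm.toLinearMap ∘ₗ (TensorProduct.mk A B N p))

theorem lam_apply (p : B) (N : ModuleCat.{u} A) (x : N) : lam φ p N x = tmulT φ N p x := rfl

/-- the `m`-th coordinate -/
noncomputable def prn (m : ι) (N : ModuleCat.{u} A) : (T φ).obj N ⟶ N :=
  ModuleCat.ofHom (X := (T φ).obj N) (Y := N)
    ((Finsupp.lapply m) ∘ₗ (coordEquiv φ b N).toLinearMap)

theorem prn_apply (m : ι) (N : ModuleCat.{u} A) (t : (T φ).obj N) :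
    prn φ b m N t = coordEquiv φ b N t m := rfl

theorem prn_tmulT (m : ι) (N : ModuleCat.{u} A) (p : B) (x : N) :
    prn φ b m N (tmulT φ N p x) = (coord φ b p m) • x :=
  coordEquiv_tmulT φ b N p x m

/-- multiplication by `p` -/
noncomputable def mu (p : B) (N : ModuleCat.{u} A) : (T φ).obj N ⟶ (T φ).obj N :=
  (ModuleCat.restrictScalars.{u} φ).map (p • 𝟙 ((ModuleCat.extendScalars.{u, u, u} φ).obj N))

theorem mu_tmulT (p q : B) (N : ModuleCat.{u} A) (x : N) :
    mu φ p N (tmulT φ N q x) = tmulT φ N (p * q) x := rfl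

theorem lam_naturality (p : B) {N N' : ModuleCat.{u} A} (f : N ⟶ N') :
    lam φ p N ≫ (T φ).map f = f ≫ lam φ p N' := by
  ext x
  rfl

theorem prn_naturality (m : ι) {N N' : ModuleCat.{u} A} (f : N ⟶ N') :
    (T φ).map f ≫ prn φ b m N' = prn φ b m N ≫ f := by
  ext t
  induction t using induction_T φ N with
  | h0 => rw [map_zero, map_zero]
  | ht p x =>
    rw [ModuleCat.comp_apply, ModuleCat.comp_apply, T_map_tmulT, prn_tmulT, prn_tmulT, map_smul]
  | ha t t' h h' => rw [map_add, map_add, h, h']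

theorem mu_naturality (p : B) {N N' : ModuleCat.{u} A} (f : N ⟶ N') :
    mu φ p N ≫ (T φ).map f = (T φ).map f ≫ mu φ p N' := by
  unfold mu
  rw [Functor.comp_map, ← Functor.map_comp, ← Functor.map_comp, Linear.smul_comp,
    Linear.comp_smul, Category.id_comp, Category.comp_id]

theorem lam_prn (p : B) (m : ι) (N : ModuleCat.{u} A) :
    lam φ p N ≫ prn φ b m N = (coord φ b p m) • 𝟙 N := by
  ext x
  rw [ModuleCat.comp_apply, lam_apply, prn_tmulT]
  rfl

theorem lam_mu (p q : B) (N : ModuleCat.{u} A) : lam φ p N ≫ mu φ q N = lam φ (q * p) N := by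
  ext x
  rfl

theorem lam_add (p p' : B) (N : ModuleCat.{u} A) : lam φ (p + p') N = lam φ p N + lam φ p' N := by
  letI := φ.toAlgebra
  ext x
  change (tEquiv φ N).symm ((p + p') ⊗ₜ[A] x) =
    (tEquiv φ N).symm (p ⊗ₜ[A] x) + (tEquiv φ N).symm (p' ⊗ₜ[A] x)
  rw [TensorProduct.add_tmul, map_add]

theorem lam_smul (a : A) (p : B) (N : ModuleCat.{u} A) :
    lam φ (φ a * p) N = a • lam φ p N := by
  letI := φ.toAlgebra
  ext x
  change (tEquiv φ N).symm ((φ a * p) ⊗ₜ[A] x) = a • (tEquiv φ N).symm (p ⊗ₜ[A] x)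
  rw [← map_smul, TensorProduct.smul_tmul']
  rfl

theorem lam_zero (N : ModuleCat.{u} A) : lam φ (0 : B) N = 0 := by
  letI := φ.toAlgebra
  ext x
  change (tEquiv φ N).symm ((0 : B) ⊗ₜ[A] x) = 0
  rw [TensorProduct.zero_tmul, map_zero]


theorem coord_basis (n m : ι) : coord φ b (b n) m = if n = m then 1 else 0 := by
  letI := φ.toAlgebra
  unfold coord
  rw [Module.Basis.repr_self, Finsupp.single_apply]

theorem eq_zero_of_coord (p : B) (h : ∀ m, coord φ b p m = 0) : p = 0 := by
  letI := φ.toAlgebra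
  have : b.repr p = 0 := Finsupp.ext h
  exact (LinearEquiv.map_eq_zero_iff b.repr).1 this

theorem lam_sum (s : Finset ι) (a : ι → A) (N : ModuleCat.{u} A) :
    lam φ (∑ n ∈ s, φ (a n) * b n) N = ∑ n ∈ s, a n • lam φ (b n) N := by
  classical
  induction s using Finset.induction_on with
  | empty => rw [Finset.sum_empty, Finset.sum_empty, lam_zero]
  | insert n s hn ih => rw [Finset.sum_insert hn, Finset.sum_insert hn, lam_add, lam_smul, ih]

theorem coordEquiv_lam_basis (n : ι) (N : ModuleCat.{u} A) (x : N) :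
    coordEquiv φ b N (lam φ (b n) N x) = Finsupp.single n x := by
  ext m
  rw [lam_apply, coordEquiv_tmulT, coord_basis, Finsupp.single_apply]
  split_ifs with h
  · rw [one_smul]
  · rw [zero_smul]

/-- the projector onto the coordinates in `s` -/
noncomputable def proj (s : Finset ι) (N : ModuleCat.{u} A) : (T φ).obj N ⟶ (T φ).obj N :=
  ∑ n ∈ s, prn φ b n N ≫ lam φ (b n) N

theorem proj_naturality (s : Finset ι) {N N' : ModuleCat.{u} A} (f : N ⟶ N') :
    proj φ b s N ≫ (T φ).map f = (T φ).map f ≫ proj φ b s N' := by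
  unfold proj
  rw [Preadditive.sum_comp, Preadditive.comp_sum]
  refine Finset.sum_congr rfl (fun n _ => ?_)
  rw [Category.assoc, lam_naturality, ← Category.assoc, ← prn_naturality, Category.assoc]

theorem coordEquiv_proj (s : Finset ι) (N : ModuleCat.{u} A) (t : (T φ).obj N) (m : ι) :
    coordEquiv φ b N (proj φ b s N t) m = if m ∈ s then coordEquiv φ b N t m else 0 := by
  classical
  have h1 : proj φ b s N t = ∑ n ∈ s, lam φ (b n) N (prn φ b n N t) := by
    unfold proj
    change (ModuleCat.Hom.hom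
      (∑ n ∈ s, prn φ b n N ≫ lam φ (b n) N : (T φ).obj N ⟶ (T φ).obj N)) t = _
    rw [ModuleCat.hom_sum, LinearMap.sum_apply]
    rfl
  rw [h1, map_sum, Finsupp.finsetSum_apply]
  simp only [coordEquiv_lam_basis, Finsupp.single_apply, prn_apply]
  rw [Finset.sum_ite_eq' s m]

theorem proj_proj (s s' : Finset ι) (hs : s ⊆ s') (N : ModuleCat.{u} A) :
    proj φ b s N ≫ proj φ b s' N = proj φ b s N := by
  ext t
  apply (coordEquiv φ b N).injective
  ext m
  rw [ModuleCat.comp_apply, coordEquiv_proj, coordEquiv_proj]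
  by_cases h : m ∈ s
  · rw [if_pos (hs h), if_pos h]
  · rw [if_neg h]
    split_ifs <;> rfl

theorem proj_prn (s : Finset ι) (m : ι) (N : ModuleCat.{u} A) :
    proj φ b s N ≫ prn φ b m N = if m ∈ s then prn φ b m N else 0 := by
  ext t
  rw [ModuleCat.comp_apply, prn_apply, coordEquiv_proj]
  split_ifs with h
  · rfl
  · rfl

theorem exists_le_supported {E : Type*} [AddCommGroup E] [Module A E]
    (N : Submodule A (ι →₀ E)) (hN : N.FG) :
    ∃ s : Finset ι, N ≤ Finsupp.supported E A (s : Set ι) := by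
  classical
  obtain ⟨T, rfl⟩ := hN
  refine ⟨T.biUnion Finsupp.support, ?_⟩
  rw [Submodule.span_le]
  intro m hm
  rw [SetLike.mem_coe, Finsupp.mem_supported]
  intro i hi
  exact Finset.mem_biUnion.2 ⟨m, hm, hi⟩

/-- a map from a finite module to `T N` factors through a finite set of coordinates -/
theorem exists_proj_eq (N : ModuleCat.{u} A) (M : ModuleCat.{u} A) [Module.Finite A M]
    (f : M ⟶ (T φ).obj N) : ∃ s : Finset ι, f ≫ proj φ b s N = f := by
  classical
  let g : M →ₗ[A] (ι →₀ N) := (coordEquiv φ b N).toLinearMap ∘ₗ f.hom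
  have hfg : (LinearMap.range g).FG := by
    rw [LinearMap.range_eq_map]
    exact Submodule.FG.map _ (Module.Finite.fg_top)
  obtain ⟨s, hs⟩ := exists_le_supported _ hfg
  refine ⟨s, ?_⟩
  ext x
  apply (coordEquiv φ b N).injective
  ext m
  rw [ModuleCat.comp_apply, coordEquiv_proj]
  split_ifs with h
  · rfl
  · have hx : g x ∈ Finsupp.supported N A (s : Set ι) := hs (LinearMap.mem_range_self g x)
    rw [Finsupp.mem_supported] at hx
    have : m ∉ (g x).support := fun hm => h (hx hm)
    exact (Finsupp.notMem_support_iff.1 this).symm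


include b in
/-- Bass–Papp: `B ⊗_A N` is an injective `A`-module when `N` is and `A` is Noetherian -/
theorem injective_T [IsNoetherianRing A] (N : ModuleCat.{u} A) [Injective N] :
    Injective ((T φ).obj N) := by
  haveI : Module.Injective A N :=
    (Groth.Agent.Lib.Helper84.DRingInj.injective_obj_iff N).2 inferInstance
  have hB : Module.Baer A ((T φ).obj N) :=
    Module.Baer.of_equiv (coordEquiv φ b N).symm
      (Groth.Agent.Lib.Helper84.BassPapp.baer_finsupp ι N)
  exact (Groth.Agent.Lib.Helper84.DRingInj.injective_obj_iff ((T φ).obj N)).1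
    (Module.Baer.injective hB)

end Groth.Agent.Lib.Helper39.Dual.FreeExt
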