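import Groth.Agent.Lib.Helper39.Dual.FreeExt
import Groth.Agent.Lib.Helper84.FlatBC

/-!
# Extension of scalars along a free ring map: complexes (helper39)
-/

set_option autoImplicit false
universe u

namespace Groth.Agent.Lib.Helper39.Dual.FreeExt

open CategoryTheory CategoryTheory.Limits Groth.Agent.Lib.Helper84

variable {A B : Type u} [CommRing A] [CommRing B] (φ : A →+* B)

/-- termwise restriction of scalars -/
noncomputable abbrev resCx : DRing.Cx B ⥤ DRing.Cx A :=
  (ModuleCat.restrictScalars.{u} φ).mapHomologicalComplex (ComplexShape.up ℤ)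

/-- `B ⊗_A J` as a complex of `A`-modules -/
noncomputable abbrev TCx (J : DRing.Cx A) : DRing.Cx A :=
  (resCx φ).obj ((FlatBC.extCx φ).obj J)

theorem sum_f {K L : DRing.Cx A} {α : Type*} (s : Finset α) (g : α → (K ⟶ L)) (i : ℤ) :
    (∑ n ∈ s, g n).f i = ∑ n ∈ s, (g n).f i :=
  Functor.map_sum (HomologicalComplex.eval (ModuleCat.{u} A) (ComplexShape.up ℤ) i) g s

variable (J : DRing.Cx A)

/-- `x ↦ p ⊗ x` on complexes -/
noncomputable def lamCx (p : B) : J ⟶ TCx φ J where
  f i := lam φ p (J.X i)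
  comm' i j _ := (lam_naturality φ p (J.d i j)).symm

/-- multiplication by `p` on `B ⊗_A J` -/
noncomputable def muCx (p : B) : TCx φ J ⟶ TCx φ J :=
  (resCx φ).map (p • 𝟙 ((FlatBC.extCx φ).obj J))

theorem muCx_f (p : B) (i : ℤ) : (muCx φ J p).f i = mu φ p (J.X i) := rfl

variable {ι : Type} [DecidableEq ι] (b : @Module.Basis ι A B _ _ φ.toAlgebra.toModule)

/-- the `m`-th coordinate on complexes -/
noncomputable def prnCx (m : ι) : TCx φ J ⟶ J where
  f i := prn φ b m (J.X i)
  comm' i j _ := (prn_naturality φ b m (J.d i j)).symm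

/-- the projector onto the coordinates in `s` -/
noncomputable def projCx (s : Finset ι) : TCx φ J ⟶ TCx φ J where
  f i := proj φ b s (J.X i)
  comm' i j _ := (proj_naturality φ b s (J.d i j))

theorem projCx_eq_sum (s : Finset ι) :
    projCx φ J b s = ∑ n ∈ s, prnCx φ J b n ≫ lamCx φ J (b n) := by
  ext i : 1
  rw [sum_f]
  rfl

theorem lamCx_prnCx (p : B) (m : ι) :
    lamCx φ J p ≫ prnCx φ J b m = (coord φ b p m) • 𝟙 J := by
  ext i : 1
  exact lam_prn φ b p m (J.X i)

theorem lamCx_muCx (p q : B) : lamCx φ J p ≫ muCx φ J q = lamCx φ J (q * p) := by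
  ext i : 1
  exact lam_mu φ p q (J.X i)

theorem lamCx_sum (s : Finset ι) (a : ι → A) :
    lamCx φ J (∑ n ∈ s, φ (a n) * b n) = ∑ n ∈ s, a n • lamCx φ J (b n) := by
  ext i : 1
  rw [sum_f]
  exact lam_sum φ b s a (J.X i)

theorem projCx_projCx (s s' : Finset ι) (hs : s ⊆ s') :
    projCx φ J b s ≫ projCx φ J b s' = projCx φ J b s := by
  ext i : 1
  exact proj_proj φ b s s' hs (J.X i)

include b in
theorem injective_TCx_X [IsNoetherianRing A] (hJ : ∀ i, Injective (J.X i)) (i : ℤ) :
    Injective ((TCx φ J).X i) := by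
  haveI := hJ i
  exact injective_T φ b (J.X i)

end Groth.Agent.Lib.Helper39.Dual.FreeExt
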