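import Groth.Agent.Lib.Helper39.Dual.FreeExtFS
import Groth.Agent.Lib.Helper15.LBCFlat
import Groth.Agent.Lib.Helper84.HomFinite

/-!
# Endomorphisms of `B ⊗_A J` in `D(B)` for a free ring map (helper39)
-/

set_option autoImplicit false
universe u

namespace Groth.Agent.Lib.Helper39.Dual.FreeExt

open CategoryTheory CategoryTheory.Limits CategoryTheory.Pretriangulated DerivedCategory
open Groth.Agent.Lib.Helper84 Groth.Agent.Lib.Helper15

attribute [local instance] HasDerivedCategory.standard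

variable {A B : Type u} [CommRing A] [CommRing B] (φ : A →+* B) (J : DRing.Cx A)
  [PreservesFiniteLimits (FlatBC.ext φ)] [DRing.HasLBaseChange φ]

/-- `B ⊗_A J` in `D(B)` -/
noncomputable abbrev KB : Dual.D B := Q.obj ((FlatBC.extCx φ).obj J)

/-- `LBaseChange (Q J) ≅ Q (B ⊗ J)` -/
noncomputable def kap : (DRing.LBaseChange φ).obj (Q.obj J) ≅ KB φ J :=
  (LBCFlat.lbcFlatIso φ).app (Q.obj J) ≪≫ FlatBC.bcToD φ J

/-- `restrictD (Q (B ⊗ J)) ≅ Q (TCx J)` -/
noncomputable def tht : (DRing.restrictD φ).obj (KB φ J) ≅ Q.obj (TCx φ J) :=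
  (ModuleCat.restrictScalars.{u} φ).mapDerivedCategoryFactors.app ((FlatBC.extCx φ).obj J)

theorem restrictD_smul_tht (q : B) :
    (DRing.restrictD φ).map (q • 𝟙 (KB φ J)) ≫ (tht φ J).hom =
      (tht φ J).hom ≫ Q.map (muCx φ J q) := by
  have h1 : q • 𝟙 (KB φ J) = Q.map (q • 𝟙 ((FlatBC.extCx φ).obj J)) := by
    rw [Functor.map_smul, CategoryTheory.Functor.map_id]
  rw [h1]
  exact (ModuleCat.restrictScalars.{u} φ).mapDerivedCategoryFactors.hom.naturality
    (q • 𝟙 ((FlatBC.extCx φ).obj J))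

/-- the adjunction bijection `End(B ⊗ J) ≃ Hom(J, B ⊗ J)` -/
noncomputable def Theta (g : KB φ J ⟶ KB φ J) : Q.obj J ⟶ Q.obj (TCx φ J) :=
  (LBCAdj.adj φ).homEquiv _ _ ((kap φ J).hom ≫ g) ≫ (tht φ J).hom

theorem Theta_bijective : Function.Bijective (Theta φ J) := by
  constructor
  · intro g g' h
    unfold Theta at h
    rw [cancel_mono] at h
    have h2 := ((LBCAdj.adj φ).homEquiv _ _).injective h
    exact (cancel_epi _).1 h2
  · intro y
    refine ⟨(kap φ J).inv ≫ ((LBCAdj.adj φ).homEquiv _ _).symm (y ≫ (tht φ J).inv), ?_⟩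
    unfold Theta
    rw [Iso.hom_inv_id_assoc, Equiv.apply_symm_apply, Category.assoc, Iso.inv_hom_id,
      Category.comp_id]

theorem Theta_comp_smul (g : KB φ J ⟶ KB φ J) (q : B) :
    Theta φ J (g ≫ (q • 𝟙 (KB φ J))) = Theta φ J g ≫ Q.map (muCx φ J q) := by
  unfold Theta
  rw [← Category.assoc, Adjunction.homEquiv_naturality_right, Category.assoc, Category.assoc,
    restrictD_smul_tht]

/-- vanishing of shifted self-maps -/
theorem subsingleton_hom_KB_shift (i : ℤ)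
    (h : Subsingleton (Q.obj J ⟶ (Q.obj (TCx φ J))⟦i⟧)) :
    Subsingleton (KB φ J ⟶ (KB φ J)⟦i⟧) := by
  refine ⟨fun g g' => ?_⟩
  have h1 : (LBCAdj.adj φ).homEquiv _ _ ((kap φ J).hom ≫ g) ≫
      ((DRing.restrictD φ).commShiftIso i).hom.app (KB φ J) ≫ ((tht φ J).hom)⟦i⟧' =
    (LBCAdj.adj φ).homEquiv _ _ ((kap φ J).hom ≫ g') ≫
      ((DRing.restrictD φ).commShiftIso i).hom.app (KB φ J) ≫ ((tht φ J).hom)⟦i⟧' :=
    Subsingleton.elim _ _
  have hiso : IsIso (((tht φ J).hom)⟦i⟧') := inferInstance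
  rw [← Category.assoc, ← Category.assoc, cancel_mono, cancel_mono] at h1
  have h2 := ((LBCAdj.adj φ).homEquiv _ _).injective h1
  exact (cancel_epi _).1 h2

end Groth.Agent.Lib.Helper39.Dual.FreeExt
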