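import Groth.Agent.Lib.Helper39.Dual.FreeExtCx
import Groth.Agent.Lib.Helper25.LocDual.SingleP
import Groth.Agent.Lib.Helper84.Devissage

/-!
# Maps from a bounded coherent complex to `B ⊗_A J` have finite support (helper39)
-/

set_option autoImplicit false
universe u

namespace Groth.Agent.Lib.Helper39.Dual.FreeExt

open CategoryTheory CategoryTheory.Limits CategoryTheory.Pretriangulated DerivedCategory
open Groth.Agent.Lib.Helper84 Groth.Agent.Lib.Helper25.LocDual

attribute [local instance] HasDerivedCategory.standard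

section FS

variable {C : Type*} [Category C] [Preadditive C] [HasZeroObject C] [HasShift C ℤ]
  [∀ n : ℤ, (shiftFunctor C n).Additive] [Pretriangulated C]
  {ι : Type*} {W : C} (e : ι → (W ⟶ W))

/-- every map to `W` is fixed by one of the endomorphisms `e s` -/
def FSProp : ObjectProperty C := fun X => ∀ y : X ⟶ W, ∃ s, y ≫ e s = y

instance : (FSProp e).IsClosedUnderIsomorphisms where
  of_iso {X Y} i h := fun y => by
    obtain ⟨s, hs⟩ := h (i.hom ≫ y)
    refine ⟨s, ?_⟩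
    rw [← cancel_epi i.hom, ← Category.assoc, hs]

theorem fsProp_of_isZero [Nonempty ι] (X : C) (hX : IsZero X) : FSProp e X := fun y =>
  ⟨Classical.arbitrary ι, by rw [hX.eq_of_src y 0, zero_comp]⟩

theorem fsProp_ext (hdir : ∀ s t, ∃ r, e s ≫ e r = e s ∧ e t ≫ e r = e t)
    (T : Triangle C) (hT : T ∈ distTriang C)
    (h₁ : FSProp e T.obj₁) (h₃ : FSProp e T.obj₃) : FSProp e T.obj₂ := by
  intro y
  obtain ⟨s1, hs1⟩ := h₁ (T.mor₁ ≫ y)
  obtain ⟨y3, hy3⟩ := Triangle.yoneda_exact₂ _ hT (y - y ≫ e s1) (by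
    rw [Preadditive.comp_sub, ← Category.assoc, hs1, sub_self])
  obtain ⟨s3, hs3⟩ := h₃ y3
  obtain ⟨r, hr1, hr3⟩ := hdir s1 s3
  refine ⟨r, ?_⟩
  have hy : y = T.mor₂ ≫ y3 + y ≫ e s1 := by rw [← hy3, sub_add_cancel]
  have h1 : (T.mor₂ ≫ y3) ≫ e r = T.mor₂ ≫ y3 := by
    rw [Category.assoc]
    conv_lhs => rw [← hs3, Category.assoc, hr3]
    rw [hs3]
  have h2 : (y ≫ e s1) ≫ e r = y ≫ e s1 := by rw [Category.assoc, hr1]
  calc y ≫ e r = (T.mor₂ ≫ y3 + y ≫ e s1) ≫ e r := by rw [← hy]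
    _ = T.mor₂ ≫ y3 + y ≫ e s1 := by rw [Preadditive.add_comp, h1, h2]
    _ = y := hy.symm

end FS

variable {A B : Type u} [CommRing A] [CommRing B] (φ : A →+* B) (J : DRing.Cx A)
  {ι : Type} [DecidableEq ι] (b : @Module.Basis ι A B _ _ φ.toAlgebra.toModule)

/-- the projectors on `(B ⊗_A J)⟦i⟧` in the derived category -/
noncomputable def eD (i : ℤ) (s : Finset ι) :
    (Q.obj (TCx φ J))⟦i⟧ ⟶ (Q.obj (TCx φ J))⟦i⟧ :=
  (Q.map (projCx φ J b s))⟦i⟧'

theorem eD_dir (i : ℤ) (s t : Finset ι) :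
    ∃ r, eD φ J b i s ≫ eD φ J b i r = eD φ J b i s ∧ eD φ J b i t ≫ eD φ J b i r = eD φ J b i t := by
  refine ⟨s ∪ t, ?_, ?_⟩
  · unfold eD
    rw [← Functor.map_comp, ← Functor.map_comp, projCx_projCx φ J b s (s ∪ t) Finset.subset_union_left]
  · unfold eD
    rw [← Functor.map_comp, ← Functor.map_comp, projCx_projCx φ J b t (s ∪ t) Finset.subset_union_right]

theorem phiP_congr (L : CochainComplex (ModuleCat.{u} A) ℤ) {p n q : ℤ} (h : p + n = q)
    {M : ModuleCat.{u} A} (f f' : M ⟶ L.X q) (hf : f ≫ L.d q (q + 1) = 0) (hff : f = f') :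
    phiP L h f hf = phiP L h f' (by rw [← hff]; exact hf) := by
  subst hff
  rfl

theorem fs_sglP [(TCx φ J).IsKInjective] (M : ModuleCat.{u} A) [Module.Finite A M] (p i : ℤ) :
    FSProp (eD φ J b i) (Q.obj (sglP p M)) := by
  intro y
  obtain ⟨f, hf, rfl⟩ := exists_repP (TCx φ J) (rfl : p + i = p + i) y
  obtain ⟨s, hs⟩ := exists_proj_eq φ b (J.X (p + i)) M f
  refine ⟨s, ?_⟩
  unfold eD
  rw [phiP_postcomp]
  exact (phiP_congr (TCx φ J) rfl f _ hf hs.symm).symm

theorem fs_single [(TCx φ J).IsKInjective] (M : ModuleCat.{u} A) [Module.Finite A M] (p i : ℤ) :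
    FSProp (eD φ J b i) ((DerivedCategory.singleFunctor (ModuleCat.{u} A) p).obj M) :=
  (FSProp (eD φ J b i)).prop_of_iso
    ((DerivedCategory.singleFunctorIsoCompQ (ModuleCat.{u} A) p).app M).symm
    (fs_sglP φ J b M p i)

/-- maps from a bounded complex with finite cohomology to `(B ⊗_A J)⟦i⟧` have finite support -/
theorem fs_of_bounded [(TCx φ J).IsKInjective] (X : Dual.D A) (a' b' : ℤ)
    (hX : ∀ i : ℤ, i < a' ∨ b' < i →
      IsZero ((DerivedCategory.homologyFunctor (ModuleCat.{u} A) i).obj X))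
    (hfin : ∀ i : ℤ, Module.Finite A ((DerivedCategory.homologyFunctor (ModuleCat.{u} A) i).obj X))
    (i : ℤ) : FSProp (eD φ J b i) X :=
  Devissage.prop_of_bounded_homology (FSProp (eD φ J b i))
    (fun K hK => fsProp_of_isZero _ K hK)
    (fun T hT h₁ h₃ => fsProp_ext _ (eD_dir φ J b i) T hT h₁ h₃) X a' b' hX (fun j => by
      haveI := hfin j
      exact fs_single φ J b _ j i)


include b in
/-- vanishing of `Hom(X, J⟦i⟧)` implies vanishing of `Hom(X, (B ⊗_A J)⟦i⟧)` -/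
theorem subsingleton_hom_TCx [(TCx φ J).IsKInjective] (X : Dual.D A) (a' b' : ℤ)
    (hX : ∀ i : ℤ, i < a' ∨ b' < i →
      IsZero ((DerivedCategory.homologyFunctor (ModuleCat.{u} A) i).obj X))
    (hfin : ∀ i : ℤ, Module.Finite A ((DerivedCategory.homologyFunctor (ModuleCat.{u} A) i).obj X))
    (i : ℤ) (h0 : Subsingleton (X ⟶ (Q.obj J)⟦i⟧)) :
    Subsingleton (X ⟶ (Q.obj (TCx φ J))⟦i⟧) := by
  have key : ∀ y : X ⟶ (Q.obj (TCx φ J))⟦i⟧, y = 0 := by
    intro y
    obtain ⟨s, hs⟩ := fs_of_bounded φ J b X a' b' hX hfin i y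
    rw [← hs]
    unfold eD
    rw [projCx_eq_sum, Functor.map_sum, Functor.map_sum, Preadditive.comp_sum]
    refine Finset.sum_eq_zero (fun n _ => ?_)
    rw [Functor.map_comp, Functor.map_comp, ← Category.assoc]
    have : y ≫ (Q.map (prnCx φ J b n))⟦i⟧' = 0 := Subsingleton.elim _ _
    rw [this, zero_comp]
  exact ⟨fun y y' => by rw [key y, key y']⟩

/-- maps to `B ⊗_A J` decompose along finitely many coordinates -/
theorem exists_finset_hom_TCx [(TCx φ J).IsKInjective] (X : Dual.D A) (a' b' : ℤ)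
    (hX : ∀ i : ℤ, i < a' ∨ b' < i →
      IsZero ((DerivedCategory.homologyFunctor (ModuleCat.{u} A) i).obj X))
    (hfin : ∀ i : ℤ, Module.Finite A ((DerivedCategory.homologyFunctor (ModuleCat.{u} A) i).obj X))
    (y : X ⟶ Q.obj (TCx φ J)) :
    ∃ s : Finset ι, y = ∑ n ∈ s, (y ≫ Q.map (prnCx φ J b n)) ≫ Q.map (lamCx φ J (b n)) := by
  obtain ⟨s, hs⟩ := fs_of_bounded φ J b X a' b' hX hfin 0
    (y ≫ (shiftFunctorZero (Dual.D A) ℤ).inv.app _)
  refine ⟨s, ?_⟩
  have h1 : y ≫ Q.map (projCx φ J b s) = y := by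
    have hn := (shiftFunctorZero (Dual.D A) ℤ).inv.naturality (Q.map (projCx φ J b s))
    rw [← cancel_mono ((shiftFunctorZero (Dual.D A) ℤ).inv.app (Q.obj (TCx φ J)))]
    rw [Category.assoc]
    erw [hn]
    rw [← Category.assoc]
    exact hs
  conv_lhs => rw [← h1]
  rw [projCx_eq_sum, Functor.map_sum, Preadditive.comp_sum]
  refine Finset.sum_congr rfl (fun n _ => ?_)
  rw [Functor.map_comp, Category.assoc]

end Groth.Agent.Lib.Helper39.Dual.FreeExt
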