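import Groth.Agent.Lib.Helper39.Dual.FreeExtEnd
import Groth.Agent.Lib.Helper25.Bidual.Main

/-!
# Base change of a dualizing complex along a free ring map (helper39)

If `B` is a free `A`-module, `ω = Q J` is dualizing over `A` (`J` a bounded complex of injectives)
and `B ⊗_A J` has finite injective dimension over `B`, then `B ⊗_A J` is dualizing over `B`.
-/

set_option autoImplicit false
universe u

namespace Groth.Agent.Lib.Helper39.Dual.FreeExt

open CategoryTheory CategoryTheory.Limits CategoryTheory.Pretriangulated DerivedCategory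
open Groth.Agent.Lib.Helper84 Groth.Agent.Lib.Helper15

attribute [local instance] HasDerivedCategory.standard

variable {A B : Type u} [CommRing A] [CommRing B] (φ : A →+* B) (J : DRing.Cx A)
  {ι : Type} [DecidableEq ι] (b : @Module.Basis ι A B _ _ φ.toAlgebra.toModule)
  [IsNoetherianRing A] (a' b' : ℤ) (hz : ∀ i : ℤ, (i < a' ∨ b' < i) → IsZero (J.X i))
  (hJ : ∀ i : ℤ, Injective (J.X i)) (hω : Dual.IsDualizing A (Q.obj J))

include b hz hJ in
theorem isKInjective_TCx : (TCx φ J).IsKInjective := by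
  haveI : (TCx φ J).IsStrictlyGE a' := by
    rw [CochainComplex.isStrictlyGE_iff]
    intro i hi
    exact Functor.map_isZero (T φ) (hz i (Or.inl hi))
  haveI : ∀ n, Injective ((TCx φ J).X n) := injective_TCx_X φ J b hJ
  exact CochainComplex.isKInjective_of_injective (TCx φ J) a'

include hz in
theorem isZero_homology_QJ (i : ℤ) (hi : i < a' ∨ b' < i) :
    IsZero ((DerivedCategory.homologyFunctor (ModuleCat.{u} A) i).obj (Q.obj J)) :=
  HomFinite.isZero_homology_Q J i (hz i hi)

include b hz hJ hω in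
/-- every map `J ⟶ B ⊗_A J` in `D(A)` is `x ↦ p ⊗ x` for some `p : B` -/
theorem exists_eq_lam (y : Q.obj J ⟶ Q.obj (TCx φ J)) : ∃ p : B, y = Q.map (lamCx φ J p) := by
  haveI := isKInjective_TCx φ J b a' b' hz hJ
  obtain ⟨s, hs⟩ := exists_finset_hom_TCx φ J b (Q.obj J) a' b'
    (isZero_homology_QJ J a' b' hz) hω.finite_cohomology y
  have ha : ∀ n : ι, ∃ a : A, a • 𝟙 (Q.obj J) = y ≫ Q.map (prnCx φ J b n) :=
    fun n => hω.toEnd_bijective.2 _
  choose a ha using ha
  refine ⟨∑ n ∈ s, φ (a n) * b n, ?_⟩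
  rw [lamCx_sum, Functor.map_sum]
  conv_lhs => rw [hs]
  refine Finset.sum_congr rfl (fun n _ => ?_)
  rw [← ha n, Functor.map_smul, Linear.smul_comp, Category.id_comp]

include b hω in
theorem eq_zero_of_lam (p : B) (h : Q.map (lamCx φ J p) = 0) : p = 0 := by
  refine eq_zero_of_coord φ b p (fun m => ?_)
  have h1 : Q.map (lamCx φ J p) ≫ Q.map (prnCx φ J b m) = (coord φ b p m) • 𝟙 (Q.obj J) := by
    rw [← Functor.map_comp, lamCx_prnCx, Functor.map_smul, CategoryTheory.Functor.map_id]
  rw [h, zero_comp] at h1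
  refine hω.toEnd_bijective.1 ?_
  change (coord φ b p m) • 𝟙 (Q.obj J) = (0 : A) • 𝟙 (Q.obj J)
  rw [← h1, zero_smul]

variable [PreservesFiniteLimits (FlatBC.ext φ)] [DRing.HasLBaseChange φ]

include b hz hJ hω in
theorem toEnd_bijective_KB : Function.Bijective (fun q : B => q • 𝟙 (KB φ J)) := by
  obtain ⟨g₀, hg₀⟩ := (Theta_bijective φ J).2 (Q.map (lamCx φ J 1))
  have hlam : ∀ p : B, Theta φ J (g₀ ≫ (p • 𝟙 (KB φ J))) = Q.map (lamCx φ J p) := by
    intro p
    rw [Theta_comp_smul, hg₀, ← Functor.map_comp, lamCx_muCx, mul_one]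
  have hex : ∀ g : KB φ J ⟶ KB φ J, ∃ p : B, g = g₀ ≫ (p • 𝟙 (KB φ J)) := by
    intro g
    obtain ⟨p, hp⟩ := exists_eq_lam φ J b a' b' hz hJ hω (Theta φ J g)
    exact ⟨p, (Theta_bijective φ J).1 (by rw [hp, hlam])⟩
  have hT0 : Theta φ J 0 = 0 := by
    have h1 := hlam 0
    rw [zero_smul, comp_zero] at h1
    rw [h1]
    have : lamCx φ J (0 : B) = 0 := by
      ext i : 1
      exact lam_zero φ (J.X i)
    rw [this, Functor.map_zero]
  have huniq0 : ∀ p : B, g₀ ≫ (p • 𝟙 (KB φ J)) = 0 → p = 0 := by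
    intro p hp
    refine eq_zero_of_lam φ J b hω p ?_
    rw [← hlam p, hp, hT0]
  have huniq : ∀ p p' : B, g₀ ≫ (p • 𝟙 (KB φ J)) = g₀ ≫ (p' • 𝟙 (KB φ J)) → p = p' := by
    intro p p' h
    have : g₀ ≫ ((p - p') • 𝟙 (KB φ J)) = 0 := by
      rw [sub_smul, Preadditive.comp_sub, h, sub_self]
    exact sub_eq_zero.1 (huniq0 _ this)
  obtain ⟨q, hq⟩ := hex (𝟙 _)
  obtain ⟨s, hs⟩ := hex (g₀ ≫ g₀)
  have hsq : s * q = 1 := by
    apply huniq
    rw [one_smul, Category.comp_id, mul_smul]
    have : g₀ ≫ (s • q • 𝟙 (KB φ J)) = (g₀ ≫ (s • 𝟙 (KB φ J))) ≫ (q • 𝟙 (KB φ J)) := by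
      rw [Category.assoc, Linear.smul_comp, Category.id_comp]
    rw [this, ← hs, Category.assoc, ← hq, Category.comp_id]
  have hg₀ : g₀ = s • 𝟙 (KB φ J) := by
    conv_rhs => rw [hq]
    rw [Linear.comp_smul, Category.comp_id, smul_smul, hsq, one_smul]
  constructor
  · intro p p' h
    dsimp only at h
    have h1 : (p - p') • 𝟙 (KB φ J) = 0 := by rw [sub_smul, h, sub_self]
    have h2 : g₀ ≫ (((p - p') * q) • 𝟙 (KB φ J)) = 0 := by
      rw [mul_smul, Linear.comp_smul, ← hq, h1]
    have h3 := huniq0 _ h2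
    have h4 : p - p' = 0 := by
      calc p - p' = (p - p') * (s * q) := by rw [hsq, mul_one]
        _ = ((p - p') * q) * s := by ring
        _ = 0 := by rw [h3, zero_mul]
    exact sub_eq_zero.1 h4
  · intro g
    obtain ⟨p, hp⟩ := hex g
    refine ⟨s * p, ?_⟩
    dsimp only
    rw [hp]
    conv_rhs => rw [hg₀]
    rw [Linear.smul_comp, Category.id_comp, smul_smul]


include hω in
omit [IsNoetherianRing A] [DRing.HasLBaseChange φ] in
theorem finite_cohomology_KB (i : ℤ) :
    Module.Finite B ((DerivedCategory.homologyFunctor (ModuleCat.{u} B) i).obj (KB φ J)) := by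
  haveI : PreservesFiniteColimits (FlatBC.ext φ) :=
    haveI : (FlatBC.ext φ).IsLeftAdjoint :=
      (ModuleCat.extendRestrictScalarsAdj φ).isLeftAdjoint
    inferInstance
  have e1 : (DerivedCategory.homologyFunctor (ModuleCat.{u} A) i).obj (Q.obj J) ≅ J.homology i :=
    (DerivedCategory.homologyFunctorFactors (ModuleCat.{u} A) i).app J
  have e2 : (DerivedCategory.homologyFunctor (ModuleCat.{u} B) i).obj (KB φ J) ≅
      (FlatBC.ext φ).obj (J.homology i) :=
    (DerivedCategory.homologyFunctorFactors (ModuleCat.{u} B) i).app _ ≪≫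
      (J.sc i).mapHomologyIso (FlatBC.ext φ)
  have h1 : Module.Finite A (J.homology i) := by
    haveI := hω.finite_cohomology i
    exact Module.Finite.equiv e1.toLinearEquiv
  have h2 : Module.Finite B ((FlatBC.ext φ).obj (J.homology i)) := FlatBC.finite_ext φ _ h1
  exact Module.Finite.equiv e2.symm.toLinearEquiv

include b hz hJ hω in
/-- **Base change of a dualizing complex along a free ring map** -/
theorem isDualizing_KB [IsNoetherianRing B]
    (hinj : ∃ a b : ℤ, ∀ (M : Type u) [AddCommGroup M] [Module B M] (i : ℤ),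
      (i < a ∨ b < i) → Subsingleton (Dual.inD B M ⟶ (KB φ J)⟦i⟧)) :
    Dual.IsDualizing B (KB φ J) where
  isNoetherianRing := inferInstance
  finite_injective_dimension := hinj
  finite_cohomology := finite_cohomology_KB φ J hω
  toEnd_bijective := toEnd_bijective_KB φ J b a' b' hz hJ hω
  ext_self_subsingleton := fun i hi => by
    haveI := isKInjective_TCx φ J b a' b' hz hJ
    exact subsingleton_hom_KB_shift φ J i
      (subsingleton_hom_TCx φ J b (Q.obj J) a' b' (isZero_homology_QJ J a' b' hz)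
        hω.finite_cohomology i (hω.ext_self_subsingleton i hi))

end Groth.Agent.Lib.Helper39.Dual.FreeExt
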