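import Groth.Agent.Lib.Helper25.LocDual.Main
import Groth.Agent.Lib.Helper25.LocDual.HomLocSingle

/-!
# Local-to-global: a bounded complex of injectives with finite cohomology which is dualizing
at every prime (or maximal ideal) is dualizing
-/

set_option autoImplicit false
universe u

namespace Groth.Agent.Lib.Helper39.Dual

open CategoryTheory CategoryTheory.Limits CategoryTheory.Pretriangulated DerivedCategory
open Groth.Agent.Lib.Helper84 Groth.Agent.Lib.Helper25.Bidual Groth.Agent.Lib.Helper25.LocDual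

attribute [local instance] HasDerivedCategory.standard

variable {A : Type u} [CommRing A]

/-- an ideal which is contained in no prime of a family `P` meeting every proper ideal is `⊤` -/
theorem ideal_eq_top_of_forall_exists_not_mem (P : Set (PrimeSpectrum A))
    (hP : ∀ 𝔞 : Ideal A, 𝔞 ≠ ⊤ → ∃ p ∈ P, 𝔞 ≤ p.asIdeal) (𝔞 : Ideal A)
    (h : ∀ p ∈ P, ∃ s ∈ 𝔞, s ∉ p.asIdeal) : 𝔞 = ⊤ := by
  by_contra hne
  obtain ⟨p, hp, hle⟩ := hP 𝔞 hne
  obtain ⟨s, hs, hsp⟩ := h p hp
  exact hsp (hle hs)

theorem isDualizing_of_forall_localization [IsNoetherianRing A]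
    (I : DRing.Cx A) (a b : ℤ) (hab : a ≤ b) (hI : ∀ n, Injective (I.X n))
    (hz : ∀ i, (i < a ∨ b < i) → IsZero (I.X i))
    (hfin : ∀ i : ℤ, Module.Finite A (Dual.HD A (Q.obj I) i))
    (P : Set (PrimeSpectrum A)) (hP : ∀ 𝔞 : Ideal A, 𝔞 ≠ ⊤ → ∃ p ∈ P, 𝔞 ≤ p.asIdeal)
    (h : ∀ p ∈ P, Dual.IsDualizing (Localization.AtPrime p.asIdeal)
      (Q.obj ((DTen.extCx (algebraMap A (Localization.AtPrime p.asIdeal))).obj I))) :
    Dual.IsDualizing A (Q.obj I) := by
  haveI : I.IsStrictlyGE a := by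
    rw [CochainComplex.isStrictlyGE_iff]
    exact fun i hi => hz i (Or.inl hi)
  haveI : I.IsKInjective := CochainComplex.isKInjective_of_injective I a
  -- local data at a prime of `P`
  have hlocal : ∀ p ∈ P,
      (∀ n : ℤ, n ≠ 0 → LocZero p.asIdeal.primeCompl (Q.obj I ⟶ (Q.obj I)⟦n⟧)) ∧
      (∀ g : Q.obj I ⟶ Q.obj I, ∃ s ∉ p.asIdeal, ∃ c : A, s • g = c • 𝟙 (Q.obj I)) ∧
      (∀ c : A, c • 𝟙 (Q.obj I) = 0 → ∃ s ∉ p.asIdeal, s * c = 0) := by
    intro p hp
    let S := p.asIdeal.primeCompl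
    let B := Localization.AtPrime p.asIdeal
    let φ : A →+* B := algebraMap A B
    have hloc : @IsLocalization A _ S B _ φ.toAlgebra := by
      have h' : φ.toAlgebra = (inferInstance : Algebra A B) :=
        Algebra.algebra_ext _ _ (fun _ => rfl)
      rw [h']
      infer_instance
    have hB := h p hp
    obtain ⟨h1, h2, h3⟩ := kinj_triple φ S hloc I a b hI hz
    haveI := h2
    haveI := h3
    have hunit : ∀ s : S, IsUnit (φ s) := by
      letI := φ.toAlgebra
      haveI := hloc
      exact fun s => IsLocalization.map_units B s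
    have hsurjB : ∀ b : B, ∃ (a : A) (s : S), φ s * b = φ a := by
      letI := φ.toAlgebra
      haveI := hloc
      intro b
      obtain ⟨⟨a, s⟩, h⟩ := IsLocalization.surj S b
      exact ⟨a, s, by rw [mul_comm]; exact h⟩
    have hv : ∀ q : ℤ, IsLocalizedModule S ((vv φ I).f q).hom := fun q =>
      isLocalizedModule_unit φ S hloc (I.X q)
    have hLoc : ∀ n : ℤ, LocProp S ((Q.map (vv φ I))⟦n⟧') (Q.obj I) := fun n =>
      locProp_of_bounded S (vv φ I) hv (Q.obj I) a b
        (fun i hi => HomFinite.isZero_homology_Q I i (hz i hi)) hfin n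
    have hLoc0 : LocProp S (Q.map (vv φ I)) (Q.obj I) := locProp_unshift S (vv φ I) (hLoc 0)
    refine ⟨fun n hn => ?_, fun g => ?_, fun c hc => ?_⟩
    · rw [locZero_hom_iff φ S hunit I (Q.obj I) n (hLoc n),
        ← subsingleton_hom_ext_iff φ I (JJ φ I) n]
      exact hB.ext_self_subsingleton n hn
    · obtain ⟨g₁, rfl⟩ := exists_Qmap_eq I g
      -- the extension of `g₁`
      let g₀ : JJ φ I ⟶ JJ φ I := (DTen.extCx φ).map g₁
      obtain ⟨b', hb'⟩ := hB.toEnd_bijective.2 (Q.map g₀)
      obtain ⟨c, s, hcs⟩ := hsurjB b'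
      have h4 : Q.map (φ s • g₀) = Q.map (φ c • 𝟙 (JJ φ I)) := by
        rw [Functor.map_smul, Functor.map_smul, CategoryTheory.Functor.map_id, ← hcs, mul_smul]
        congr 1
        exact hb'.symm
      have h5 := Qmap_transfer' φ I g₀ s c h4
      have hnat : vv φ I ≫ (DTen.resCx φ).map g₀ = g₁ ≫ vv φ I :=
        ((DTen.unitCx φ).naturality g₁).symm
      rw [hnat] at h5
      have h6 : ((s : A) • Q.map g₁ - c • 𝟙 (Q.obj I)) ≫ Q.map (vv φ I) = 0 := by
        rw [Preadditive.sub_comp, Linear.smul_comp, Linear.smul_comp, Category.id_comp,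
          ← Functor.map_comp, sub_eq_zero]
        rw [Functor.map_smul, Functor.map_smul] at h5
        exact h5
      obtain ⟨t, ht⟩ := hLoc0.inj _ h6
      refine ⟨(t : A) * (s : A), fun hmem => ?_, (t : A) * c, ?_⟩
      · exact (S.mul_mem t.2 s.2) hmem
      · rw [smul_sub, sub_eq_zero] at ht
        rw [mul_smul, ht, mul_smul]
    · have h4 : Q.map (c • (vv φ I ≫ (DTen.resCx φ).map (𝟙 (JJ φ I)))) =
          Q.map ((0 : A) • vv φ I) := by
        rw [CategoryTheory.Functor.map_id, Category.comp_id, zero_smul, Functor.map_zero,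
          Functor.map_smul]
        have : c • Q.map (vv φ I) = (c • 𝟙 (Q.obj I)) ≫ Q.map (vv φ I) := by
          rw [Linear.smul_comp, Category.id_comp]
        rw [this, hc, zero_comp]
      have h5 := Qmap_transfer φ I (𝟙 (JJ φ I)) c 0 h4
      rw [map_zero, zero_smul, Functor.map_zero, Functor.map_smul,
        CategoryTheory.Functor.map_id] at h5
      have h6 : φ c = 0 := by
        apply hB.toEnd_bijective.1
        change φ c • 𝟙 _ = (0 : B) • 𝟙 _
        rw [zero_smul]
        exact h5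
      letI := φ.toAlgebra
      haveI := hloc
      have h7 : (algebraMap A B) c = (algebraMap A B) 0 := by
        rw [map_zero]; exact h6
      obtain ⟨s, hs⟩ := (IsLocalization.eq_iff_exists S B).1 h7
      exact ⟨s, s.2, by rw [hs, mul_zero]⟩
  refine
    { isNoetherianRing := inferInstance
      finite_injective_dimension := ⟨a, b, fun M _ _ i hi => ?_⟩
      finite_cohomology := hfin
      toEnd_bijective := ⟨?_, ?_⟩
      ext_self_subsingleton := fun n hn => ?_ }
  · have h' := (Groth.Agent.S12537.result (ModuleCat.{u} A) (Q.obj I) a b hab).2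
      ⟨I, hI, hz, ⟨Iso.refl _⟩⟩ (ModuleCat.of A M) i hi
    exact ⟨fun f g => by rw [h' f, h' g]⟩
  · -- injectivity of `A → End`
    intro c c' hcc
    have hsub : (c - c') • 𝟙 (Q.obj I) = 0 := by
      rw [sub_smul]; exact sub_eq_zero.2 hcc
    let 𝔞 : Ideal A := LinearMap.ker (LinearMap.toSpanSingleton A A (c - c'))
    have htop : 𝔞 = ⊤ := by
      refine ideal_eq_top_of_forall_exists_not_mem P hP 𝔞 (fun p hp => ?_)
      obtain ⟨s, hs, hsc⟩ := (hlocal p hp).2.2 (c - c') hsub
      refine ⟨s, ?_, hs⟩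
      change (LinearMap.toSpanSingleton A A (c - c')) s = 0
      rw [LinearMap.toSpanSingleton_apply, smul_eq_mul]
      exact hsc
    have h1 : (1 : A) ∈ 𝔞 := by rw [htop]; trivial
    have h2 : (LinearMap.toSpanSingleton A A (c - c')) 1 = 0 := h1
    rw [LinearMap.toSpanSingleton_apply, one_smul] at h2
    exact sub_eq_zero.1 h2
  · -- surjectivity of `A → End`
    intro g
    let R : Submodule A (Q.obj I ⟶ Q.obj I) :=
      LinearMap.range (LinearMap.toSpanSingleton A (Q.obj I ⟶ Q.obj I) (𝟙 (Q.obj I)))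
    let 𝔞 : Ideal A := Submodule.comap (LinearMap.toSpanSingleton A (Q.obj I ⟶ Q.obj I) g) R
    have htop : 𝔞 = ⊤ := by
      refine ideal_eq_top_of_forall_exists_not_mem P hP 𝔞 (fun p hp => ?_)
      obtain ⟨s, hs, c, hsc⟩ := (hlocal p hp).2.1 g
      refine ⟨s, ?_, hs⟩
      change (LinearMap.toSpanSingleton A _ g) s ∈ R
      rw [LinearMap.toSpanSingleton_apply, hsc]
      exact ⟨c, by rw [LinearMap.toSpanSingleton_apply]⟩
    have h1 : (1 : A) ∈ 𝔞 := by rw [htop]; trivial
    have h2 : (LinearMap.toSpanSingleton A _ g) 1 ∈ R := h1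
    rw [LinearMap.toSpanSingleton_apply, one_smul] at h2
    obtain ⟨c, hc⟩ := h2
    rw [LinearMap.toSpanSingleton_apply] at hc
    exact ⟨c, hc⟩
  · -- vanishing of self-extensions
    suffices key : ∀ x : Q.obj I ⟶ (Q.obj I)⟦n⟧, x = 0 from ⟨fun x y => by rw [key x, key y]⟩
    intro x
    let 𝔞 : Ideal A := LinearMap.ker (LinearMap.toSpanSingleton A (Q.obj I ⟶ (Q.obj I)⟦n⟧) x)
    have htop : 𝔞 = ⊤ := by
      refine ideal_eq_top_of_forall_exists_not_mem P hP 𝔞 (fun p hp => ?_)
      obtain ⟨s, hs, hsx⟩ := (hlocal p hp).1 n hn x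
      refine ⟨s, ?_, hs⟩
      change (LinearMap.toSpanSingleton A _ x) s = 0
      rw [LinearMap.toSpanSingleton_apply]
      exact hsx
    have h1 : (1 : A) ∈ 𝔞 := by rw [htop]; trivial
    have h2 : (LinearMap.toSpanSingleton A _ x) 1 = 0 := h1
    rw [LinearMap.toSpanSingleton_apply, one_smul] at h2
    exact h2

/-- the `LBaseChange` form: an object `K ≅ Q(I)` with `I` a bounded complex of injectives and finite
cohomology, whose derived base changes to `A_p`, `p ∈ P`, are dualizing, is dualizing. -/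
theorem isDualizing_of_forall_LBaseChange [IsNoetherianRing A] (K : Dual.D A)
    (I : DRing.Cx A) (a b : ℤ) (hI : ∀ n, Injective (I.X n))
    (hz : ∀ i, (i < a ∨ b < i) → IsZero (I.X i)) (e : Q.obj I ≅ K)
    (hfin : ∀ i : ℤ, Module.Finite A (Dual.HD A K i))
    (P : Set (PrimeSpectrum A)) (hP : ∀ 𝔞 : Ideal A, 𝔞 ≠ ⊤ → ∃ p ∈ P, 𝔞 ≤ p.asIdeal)
    (h : ∀ p ∈ P, ∃ _ : DRing.HasLBaseChange (algebraMap A (Localization.AtPrime p.asIdeal)),
      Dual.IsDualizing (Localization.AtPrime p.asIdeal)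
        ((DRing.LBaseChange (algebraMap A (Localization.AtPrime p.asIdeal))).obj K)) :
    Dual.IsDualizing A K := by
  have hz' : ∀ i, (i < a ∨ max a b < i) → IsZero (I.X i) := fun i hi => by
    rcases hi with hi | hi
    · exact hz i (Or.inl hi)
    · exact hz i (Or.inr (lt_of_le_of_lt (le_max_right a b) hi))
  have hfin' : ∀ i : ℤ, Module.Finite A (Dual.HD A (Q.obj I) i) := fun i => by
    haveI := hfin i
    exact Module.Finite.equiv
      ((DerivedCategory.homologyFunctor (ModuleCat.{u} A) i).mapIso e).symm.toLinearEquiv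
  refine isDualizing_of_iso e
    (isDualizing_of_forall_localization I a (max a b) (le_max_left a b) hI hz' hfin' P hP ?_)
  intro p hp
  obtain ⟨hbc, hB⟩ := h p hp
  let S := p.asIdeal.primeCompl
  let B := Localization.AtPrime p.asIdeal
  let φ : A →+* B := algebraMap A B
  have hloc : @IsLocalization A _ S B _ φ.toAlgebra := by
    have h' : φ.toAlgebra = (inferInstance : Algebra A B) :=
      Algebra.algebra_ext _ _ (fun _ => rfl)
    rw [h']
    infer_instance
  have hflat : φ.Flat := flat_of_isLocalization φ S hloc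
  haveI : PreservesFiniteLimits (FlatBC.ext φ) := FlatBC.preservesFiniteLimits_ext φ hflat
  exact isDualizing_of_iso (((FlatBC.bcToD φ I).symm ≪≫
    ((Groth.Agent.Lib.Helper15.LBCFlat.lbcFlatIso φ).symm.app (Q.obj I)) ≪≫
    (DRing.LBaseChange φ).mapIso e).symm) hB

end Groth.Agent.Lib.Helper39.Dual
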