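import Groth.Agent.Lib.Helper39.Dual.PolyDual
import Groth.Agent.Lib.Helper39.Dual.LocExt
import Groth.Agent.Lib.Helper25.Bidual.RightAdj
import Groth.Agent.Lib.Helper15.PseudoCohRes

/-!
# Base change of a dualizing complex to `R[x₁, …, xₙ]` is dualizing (helper39)
-/

set_option autoImplicit false
universe u

namespace Groth.Agent.Lib.Helper39.Dual.MvPolyDual

open CategoryTheory CategoryTheory.Limits DerivedCategory
open Groth.Agent.Lib.Helper15 Groth.Agent.Lib.Helper15.PseudoCohRes
open Groth.Agent.Lib.Helper25.Bidual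
open scoped Polynomial

attribute [local instance] HasDerivedCategory.standard

section Iso

variable {S S' : Type u} [CommRing S] [CommRing S'] (e : S ≃+* S')

/-- restriction of scalars along a ring isomorphism is an equivalence -/
noncomputable def restrictDEquiv : Dual.D S' ≌ Dual.D S :=
  CategoryTheory.Equivalence.mk (DRing.restrictD (e : S →+* S')) (DRing.restrictD (e.symm : S' →+* S))
    (restrictDSection (e.symm : S' →+* S) (e : S →+* S') (by ext x; simp)).symm
    (restrictDSection (e : S →+* S') (e.symm : S' →+* S) (by ext x; simp))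

/-- base change along a ring isomorphism is restriction along the inverse -/
noncomputable def lbcIsoRestrict [DRing.HasLBaseChange (e : S →+* S')] :
    DRing.LBaseChange (e : S →+* S') ≅ DRing.restrictD (e.symm : S' →+* S) :=
  Adjunction.leftAdjointUniq (LBCAdj.adj (e : S →+* S')) (restrictDEquiv e).symm.toAdjunction

theorem isDualizing_LBaseChange_ringEquiv [IsNoetherianRing S] [IsNoetherianRing S']
    [DRing.HasLBaseChange (e : S →+* S')] (ω : Dual.D S) (hω : Dual.IsDualizing S ω) :
    Dual.IsDualizing S' ((DRing.LBaseChange (e : S →+* S')).obj ω) := by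
  have h := isDualizing_rightAdjoint (e : S →+* S')
    (RingHom.Finite.of_surjective _ e.surjective) (restrictDEquiv e).toAdjunction ω hω
  exact isDualizing_of_iso ((lbcIsoRestrict e).app ω).symm h

end Iso

section MvPoly

variable (R : Type u) [CommRing R] [IsNoetherianRing R]

theorem isDualizing_LBaseChange_mvPolynomial : ∀ (n : ℕ)
    [DRing.HasLBaseChange (algebraMap R (MvPolynomial (Fin n) R))] (ω : Dual.D R)
    (_ : Dual.IsDualizing R ω),
    Dual.IsDualizing (MvPolynomial (Fin n) R)
      ((DRing.LBaseChange (algebraMap R (MvPolynomial (Fin n) R))).obj ω) := by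
  intro n
  induction n with
  | zero =>
    intro _ ω hω
    let e₀ : R ≃+* MvPolynomial (Fin 0) R :=
      (MvPolynomial.isEmptyAlgEquiv R (Fin 0)).symm.toRingEquiv
    have heq : (e₀ : R →+* MvPolynomial (Fin 0) R) = algebraMap R (MvPolynomial (Fin 0) R) :=
      RingHom.ext fun r => (MvPolynomial.isEmptyAlgEquiv R (Fin 0)).symm.commutes r
    exact isDualizing_of_iso ((LBCFlat.lbcOfEq heq).app ω)
      (isDualizing_LBaseChange_ringEquiv e₀ ω hω)
  | succ n ih =>
    intro _ ω hω
    let P := MvPolynomial (Fin n) R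
    let e : P[X] ≃+* MvPolynomial (Fin (n + 1)) R :=
      (MvPolynomial.finSuccEquiv R n).symm.toRingEquiv
    let φ₁ : R →+* P := algebraMap R P
    let φ₂ : P →+* P[X] := algebraMap P P[X]
    let φ₃ : P[X] →+* MvPolynomial (Fin (n + 1)) R := (e : P[X] →+* MvPolynomial (Fin (n + 1)) R)
    have heq : φ₃.comp (φ₂.comp φ₁) = algebraMap R (MvPolynomial (Fin (n + 1)) R) := by
      refine RingHom.ext fun r => ?_
      have h1 : φ₂ (φ₁ r) = algebraMap R P[X] r := (IsScalarTower.algebraMap_apply R P P[X] r).symm
      change e (φ₂ (φ₁ r)) = _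
      rw [h1]
      exact (MvPolynomial.finSuccEquiv R n).symm.commutes r
    have h₁ := ih ω hω
    have h₂ := PolyDual.isDualizing_LBaseChange_polynomial P _ h₁
    have h₃ := isDualizing_LBaseChange_ringEquiv e _ h₂
    refine isDualizing_of_iso ?_ h₃
    exact (DRing.LBaseChange φ₃).mapIso ((LBCFlat.lbcComp φ₁ φ₂).app ω) ≪≫
      (LBCFlat.lbcComp (φ₂.comp φ₁) φ₃).app ω ≪≫ (LBCFlat.lbcOfEq heq).app ω

end MvPoly

end Groth.Agent.Lib.Helper39.Dual.MvPolyDual
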