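import Groth.Agent.Lib.Helper39.Dual.FreeExtMain
import Groth.Agent.Lib.Helper39.Dual.Basic
import Groth.Agent.S1748

/-!
# The base change of a dualizing complex to the polynomial ring is dualizing (helper39)
-/

set_option autoImplicit false
universe u

namespace Groth.Agent.Lib.Helper39.Dual.PolyDual

open CategoryTheory CategoryTheory.Limits CategoryTheory.Pretriangulated DerivedCategory
open Groth.Agent.Lib.Helper84 Groth.Agent.Lib.Helper15 Groth.Agent.Lib.Helper25.Bidual
open Groth.Agent.Lib.Helper39.Dual Groth.Agent.Lib.Helper39.Dual.FreeExt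
open scoped Polynomial TensorProduct

attribute [local instance] HasDerivedCategory.standard

section General

variable {B : Type u} [CommRing B]

/-- shifting single functors -/
theorem subsingleton_hom_single_shift (X : Dual.D B) (N : ModuleCat.{u} B) (j i : ℤ)
    (h : Subsingleton (X ⟶
      ((DerivedCategory.singleFunctor (ModuleCat.{u} B) 0).obj N)⟦i - j⟧)) :
    Subsingleton (X ⟶ ((DerivedCategory.singleFunctor (ModuleCat.{u} B) j).obj N)⟦i⟧) := by
  let e1 : ((DerivedCategory.singleFunctor (ModuleCat.{u} B) j).obj N)⟦i⟧ ≅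
      (DerivedCategory.singleFunctor (ModuleCat.{u} B) (j - i)).obj N :=
    ((DerivedCategory.singleFunctors (ModuleCat.{u} B)).shiftIso i (j - i) j (by omega)).app N
  let e2 : ((DerivedCategory.singleFunctor (ModuleCat.{u} B) 0).obj N)⟦i - j⟧ ≅
      (DerivedCategory.singleFunctor (ModuleCat.{u} B) (j - i)).obj N :=
    ((DerivedCategory.singleFunctors (ModuleCat.{u} B)).shiftIso (i - j) (j - i) 0
      (by omega)).app N
  exact subsingleton_hom_of_iso_right (e2 ≪≫ e1.symm) h

/-- the property "`Ext^i(M, K) = 0` for all modules `M` and `i ∉ [a, b]`" -/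
def ExtVan (a b : ℤ) : ObjectProperty (Dual.D B) := fun K =>
  ∀ (M : Type u) [AddCommGroup M] [Module B M] (i : ℤ), (i < a ∨ b < i) →
    Subsingleton (Dual.inD B M ⟶ K⟦i⟧)

instance (a b : ℤ) : (ExtVan (B := B) a b).IsClosedUnderIsomorphisms where
  of_iso e h := fun M _ _ i hi =>
    subsingleton_hom_of_iso_right ((shiftFunctor (Dual.D B) i).mapIso e) (h M i hi)

theorem extVan_of_isZero (a b : ℤ) (K : Dual.D B) (hK : IsZero K) : ExtVan a b K :=
  fun M _ _ i _ => ⟨fun f g =>
    ((Functor.map_isZero (shiftFunctor (Dual.D B) i) hK).eq_of_tgt f g)⟩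

theorem extVan_ext (a b : ℤ) (T : Triangle (Dual.D B)) (hT : T ∈ distTriang _)
    (h₁ : ExtVan a b T.obj₁) (h₃ : ExtVan a b T.obj₃) : ExtVan a b T.obj₂ := by
  intro M _ _ i hi
  have hT' := Triangle.shift_distinguished T hT i
  refine ⟨fun f g => ?_⟩
  have key : ∀ f : Dual.inD B M ⟶ T.obj₂⟦i⟧, f = 0 := by
    intro f
    obtain ⟨g, hg⟩ := Triangle.coyoneda_exact₂ _ hT' f ((h₃ M i hi).elim _ _)
    have hg0 : g = 0 := (h₁ M i hi).elim _ _
    rw [hg, hg0]
    exact zero_comp
  rw [key f, key g]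

end General

section Poly

variable (A : Type u) [CommRing A]

/-- the ring map `A → A[X]` -/
noncomputable abbrev phi : A →+* A[X] := algebraMap A A[X]

theorem toAlgebra_eq : (phi A).toAlgebra = (inferInstance : Algebra A A[X]) :=
  Algebra.algebra_ext _ _ (fun _ => rfl)

/-- the monomial basis, for the module structure coming from `phi` -/
noncomputable def basisPhi : @Module.Basis ℕ A A[X] _ _ (phi A).toAlgebra.toModule := by
  rw [toAlgebra_eq]
  exact Polynomial.basisMonomials A

instance : PreservesFiniteLimits (FlatBC.ext (phi A)) := by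
  apply FlatBC.preservesFiniteLimits_ext
  change @Module.Flat A A[X] _ _ (phi A).toAlgebra.toModule
  rw [toAlgebra_eq]
  infer_instance

theorem nonempty_ext_iso (alg : Algebra A A[X]) (h : (phi A).toAlgebra = alg)
    (E : ModuleCat.{u} A) :
    Nonempty ((FlatBC.ext (phi A)).obj E ≅
      ModuleCat.of A[X] (@TensorProduct A _ A[X] E _ _ alg.toModule _)) := by
  subst h
  exact ⟨Iso.refl _⟩

variable [IsNoetherianRing A]

/-- `Ext^i(M, A[X] ⊗ E) = 0` for `i ∉ [0, 1]`, `E` injective -/
theorem subsingleton_hom_polyExt (E : ModuleCat.{u} A) [Injective E] (M : Type u)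
    [AddCommGroup M] [Module A[X] M] (i : ℤ) (hi : i < 0 ∨ 1 < i) :
    Subsingleton (Dual.inD A[X] M ⟶
      ((DerivedCategory.singleFunctor (ModuleCat.{u} A[X]) 0).obj
        ((FlatBC.ext (phi A)).obj E))⟦i⟧) := by
  haveI : Module.Injective A E := (DRingInj.injective_obj_iff E).2 inferInstance
  obtain ⟨Ecx, h1, h2, ⟨e⟩⟩ := Groth.Agent.S1748.result A E
  have h3 := (Groth.Agent.S12537.result (ModuleCat.{u} A[X]) (Dual.inD A[X] (A[X] ⊗[A] E)) 0 1
    (by norm_num)).2 ⟨Ecx, fun j => (DRingInj.injective_obj_iff _).1 (h2 j), h1, ⟨e⟩⟩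
  obtain ⟨e'⟩ := nonempty_ext_iso A inferInstance (toAlgebra_eq A) E
  have h4 : Subsingleton (Dual.inD A[X] M ⟶ (Dual.inD A[X] (A[X] ⊗[A] E))⟦i⟧) :=
    ⟨fun f g => by rw [h3 _ i hi f, h3 _ i hi g]⟩
  exact subsingleton_hom_of_iso_right ((shiftFunctor (Dual.D A[X]) i).mapIso
    ((DerivedCategory.singleFunctor (ModuleCat.{u} A[X]) 0).mapIso e'.symm)) h4

/-- `A[X] ⊗_A J` has finite injective dimension over `A[X]` -/
theorem extVan_KB (J : DRing.Cx A) (a' b' : ℤ)
    (hz : ∀ i : ℤ, (i < a' ∨ b' < i) → IsZero (J.X i)) (hJ : ∀ i : ℤ, Injective (J.X i)) :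
    ExtVan a' (b' + 1) (KB (phi A) J) := by
  refine Devissage.prop_of_bounded_complex (ExtVan a' (b' + 1))
    (fun K hK => extVan_of_isZero a' (b' + 1) K hK)
    (fun T hT h₁ h₃ => extVan_ext a' (b' + 1) T hT h₁ h₃)
    ((FlatBC.extCx (phi A)).obj J) a' b'
    (fun i hi => Functor.map_isZero (FlatBC.ext (phi A)) (hz i hi)) (fun j => ?_)
  intro M _ _ i hi
  by_cases hj : j < a' ∨ b' < j
  · have h0 : IsZero (((DerivedCategory.singleFunctor (ModuleCat.{u} A[X]) j).obj
        (((FlatBC.extCx (phi A)).obj J).X j))⟦i⟧) :=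
      Functor.map_isZero _ (Functor.map_isZero _
        (Functor.map_isZero (FlatBC.ext (phi A)) (hz j hj)))
    exact ⟨fun f g => h0.eq_of_tgt f g⟩
  · push Not at hj
    haveI := hJ j
    apply subsingleton_hom_single_shift
    apply subsingleton_hom_polyExt
    rcases hi with hi | hi
    · left; lia
    · right; lia

/-- **The base change of a dualizing complex to `A[X]` is dualizing.** -/
theorem isDualizing_LBaseChange_polynomial [DRing.HasLBaseChange (phi A)] (ω : Dual.D A)
    (hω : Dual.IsDualizing A ω) :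
    Dual.IsDualizing A[X] ((DRing.LBaseChange (phi A)).obj ω) := by
  obtain ⟨J, a', b', hJ, hz, ⟨e⟩⟩ := exists_bounded_injective_model ω hω
  have hωJ : Dual.IsDualizing A (Q.obj J) := isDualizing_of_iso e.symm hω
  have h := isDualizing_KB (phi A) J (basisPhi A) a' b' hz hJ hωJ
    ⟨a', b' + 1, extVan_KB A J a' b' hz hJ⟩
  exact isDualizing_of_iso ((kap (phi A) J).symm ≪≫ (DRing.LBaseChange (phi A)).mapIso e) h

end Poly

end Groth.Agent.Lib.Helper39.Dual.PolyDual
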