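import Groth.Agent.Lib.Helper39.Dual.DpHom
import Groth.Agent.Lib.Helper39.Dual.FinLenDual
import Groth.Agent.Lib.Helper25.Bidual.Finite
import Groth.Agent.Lib.Helper25.Bidual.Exact
import Groth.Agent.Lib.Helper25.Bidual.Main
import Groth.Agent.Lib.Helper25.LocDual.FinLen

/-!
# The triangle `R(ω)|_A ⟶ ω ⟶ Hom(I, E)[0]` for an ideal of finite length (helper39)
-/

set_option autoImplicit false
universe u

namespace Groth.Agent.Lib.Helper39.Dual.QuotTri

open CategoryTheory CategoryTheory.Limits CategoryTheory.Pretriangulated DerivedCategory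
open Groth.Agent.Lib.Helper25.Bidual Groth.Agent.Lib.Helper25.LocDual
open Groth.Agent.Lib.Helper39.Dual

attribute [local instance] HasDerivedCategory.standard

section General

variable {C : Type*} [Category C] [Preadditive C] [HasZeroObject C] [HasShift C ℤ]
  [∀ n : ℤ, (shiftFunctor C n).Additive] [Pretriangulated C]

theorem exists_triangle_of_isos (T : Triangle C) (hT : T ∈ distTriang C) {Y₁ Y₂ Y₃ : C}
    (e₁ : T.obj₁ ≅ Y₁) (e₂ : T.obj₂ ≅ Y₂) (e₃ : T.obj₃ ≅ Y₃) :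
    ∃ (u : Y₁ ⟶ Y₂) (v : Y₂ ⟶ Y₃) (w : Y₃ ⟶ Y₁⟦(1 : ℤ)⟧),
      Triangle.mk u v w ∈ distTriang C := by
  refine ⟨e₁.inv ≫ T.mor₁ ≫ e₂.hom, e₂.inv ≫ T.mor₂ ≫ e₃.hom,
    e₃.inv ≫ T.mor₃ ≫ e₁.hom⟦(1 : ℤ)⟧', ?_⟩
  refine isomorphic_distinguished _ hT _
    (Triangle.isoMk _ _ e₁.symm e₂.symm e₃.symm ?_ ?_ ?_)
  · change (e₁.inv ≫ T.mor₁ ≫ e₂.hom) ≫ e₂.inv = e₁.inv ≫ T.mor₁
    rw [Category.assoc, Category.assoc, Iso.hom_inv_id, Category.comp_id]
  · change (e₂.inv ≫ T.mor₂ ≫ e₃.hom) ≫ e₃.inv = e₂.inv ≫ T.mor₂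
    rw [Category.assoc, Category.assoc, Iso.hom_inv_id, Category.comp_id]
  · change (e₃.inv ≫ T.mor₃ ≫ (shiftFunctor C (1 : ℤ)).map e₁.hom) ≫
      (shiftFunctor C (1 : ℤ)).map e₁.inv = e₃.inv ≫ T.mor₃
    rw [Category.assoc, Category.assoc, ← Functor.map_comp, Iso.hom_inv_id,
      CategoryTheory.Functor.map_id, Category.comp_id]

end General

variable {A : Type u} [CommRing A]

/-- the quotient map, as a linear map to `A/I` with the restricted module structure -/
noncomputable def quotLin (I : Ideal A) : A →ₗ[A] (resB (Ideal.Quotient.mk I)) where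
  toFun a := (show (resB (Ideal.Quotient.mk I) : Type u) from Ideal.Quotient.mk I a)
  map_add' a b := map_add (Ideal.Quotient.mk I) a b
  map_smul' r a := by
    rw [RingHom.id_apply]
    change Ideal.Quotient.mk I (r * a) = Ideal.Quotient.mk I r * Ideal.Quotient.mk I a
    exact map_mul _ _ _

theorem quotLin_surjective (I : Ideal A) : Function.Surjective (quotLin I) :=
  Ideal.Quotient.mk_surjective

theorem quotLin_exact (I : Ideal A) : Function.Exact I.subtype (quotLin I) := by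
  intro a
  change Ideal.Quotient.mk I a = 0 ↔ _
  rw [Ideal.Quotient.eq_zero_iff_mem]
  constructor
  · intro h
    exact ⟨⟨a, h⟩, rfl⟩
  · rintro ⟨x, rfl⟩
    exact x.2

/-- the short exact sequence `0 → I → A → A/I → 0` -/
noncomputable def quotSC (I : Ideal A) : ShortComplex (ModuleCat.{u} A) :=
  ShortComplex.mk (ModuleCat.ofHom I.subtype) (ModuleCat.ofHom (quotLin I))
    (by ext x; exact (quotLin_exact I).apply_apply_eq_zero x)

theorem quotSC_shortExact (I : Ideal A) : (quotSC I).ShortExact :=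
  { exact := (ShortComplex.ShortExact.moduleCat_exact_iff_function_exact _).mpr (quotLin_exact I)
    mono_f := (ModuleCat.mono_iff_injective _).mpr I.subtype_injective
    epi_g := (ModuleCat.epi_iff_surjective _).mpr (quotLin_surjective I) }


section Local

variable [IsLocalRing A] [IsNoetherianRing A]

/-- for `N` of finite length, `Hom(N, J)` is `Hom_A(N, E)` placed in degree `0` -/
theorem nonempty_iso_Dp_finLen (J : DRing.Cx A) [J.IsKInjective] (ω : Dual.D A)
    (eJ : Q.obj J ≅ ω) (hω : Dual.IsDualizing A ω) (hn : Dual.IsNormalized A ω)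
    (N : Type u) [AddCommGroup N] [Module A N] (hN : IsFiniteLength A N)
    (E : Type u) [AddCommGroup E] [Module A E]
    (f : IsLocalRing.ResidueField A →ₗ[A] E) (hf : InjHull.IsInjectiveHull f) :
    Nonempty (Q.obj (Dp J (ModuleCat.of A N)) ≅ Dual.inD A (N →ₗ[A] E)) := by
  let K := Dp J (ModuleCat.of A N)
  let iso1 : Q.obj (sglP 0 (ModuleCat.of A N)) ≅ Dual.inD A N :=
    ((DerivedCategory.singleFunctorIsoCompQ (ModuleCat.{u} A) 0).app (ModuleCat.of A N)).symm
  have hvan : ∀ q : ℤ, q ≠ 0 → IsZero (K.homology q) := by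
    intro q hq
    have hκ : Subsingleton (Dual.inD A (A ⧸ IsLocalRing.maximalIdeal A) ⟶ (Q.obj J)⟦q⟧) :=
      subsingleton_hom_of_iso_right ((shiftFunctor (Dual.D A) q).mapIso eJ.symm) (hn q hq)
    have h1 : Subsingleton (Dual.inD A N ⟶ (Q.obj J)⟦q⟧) :=
      subsingleton_hom_of_isFiniteLength _ hκ N hN
    have h2 : Subsingleton (Q.obj (sglP 0 (ModuleCat.of A N)) ⟶ (Q.obj J)⟦q⟧) :=
      subsingleton_hom_of_iso_left iso1.symm h1
    haveI : Subsingleton (K.homology q) :=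
      (DpHom.homologyEquiv J (ModuleCat.of A N) q).toEquiv.subsingleton
    exact ModuleCat.isZero_of_subsingleton _
  haveI : (Q.obj K).IsGE 0 := by
    rw [isGE_iff]
    intro i hi
    exact IsZero.of_iso (hvan i (by lia))
      ((DerivedCategory.homologyFunctorFactors (ModuleCat.{u} A) i).app K)
  haveI : (Q.obj K).IsLE 0 := by
    rw [isLE_iff]
    intro i hi
    exact IsZero.of_iso (hvan i (by lia))
      ((DerivedCategory.homologyFunctorFactors (ModuleCat.{u} A) i).app K)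
  obtain ⟨V, ⟨eV⟩⟩ := exists_iso_singleFunctor_obj_of_isGE_of_isLE (Q.obj K) 0
  have e1 : K.homology 0 ≅ V :=
    ((DerivedCategory.homologyFunctorFactors (ModuleCat.{u} A) 0).app K).symm ≪≫
      (DerivedCategory.homologyFunctor (ModuleCat.{u} A) 0).mapIso eV ≪≫
      (DerivedCategory.singleFunctorCompHomologyFunctorIso (ModuleCat.{u} A) 0).app V
  obtain ⟨e2⟩ := finLen_main ω hω hn N hN E f hf
  let e3 : (Q.obj (sglP 0 (ModuleCat.of A N)) ⟶ (Q.obj J)⟦(0 : ℤ)⟧) ≃ₗ[A]
      (Dual.inD A N ⟶ ω) :=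
    Linear.homCongr A iso1 ((shiftFunctorZero (Dual.D A) ℤ).app (Q.obj J) ≪≫ eJ)
  let eT : V ≅ ModuleCat.of A (N →ₗ[A] E) :=
    e1.symm ≪≫ ((DpHom.homologyEquiv J (ModuleCat.of A N) 0).trans (e3.trans e2)).toModuleIso
  exact ⟨eV ≪≫ (DerivedCategory.singleFunctor (ModuleCat.{u} A) 0).mapIso eT⟩

/-- **The triangle `R(ω)|_A ⟶ ω ⟶ Hom_A(I, E)[0]`** for an ideal `I` of finite length. -/
theorem main (ω : Dual.D A) (hω : Dual.IsDualizing A ω) (hn : Dual.IsNormalized A ω)
    (I : Ideal A) (hIl : IsFiniteLength A I) (E : Type u) [AddCommGroup E] [Module A E]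
    (f : IsLocalRing.ResidueField A →ₗ[A] E) (hf : InjHull.IsInjectiveHull f)
    (R : Dual.D A ⥤ Dual.D (A ⧸ I)) (adj : DRing.restrictD (Ideal.Quotient.mk I) ⊣ R) :
    ∃ (u : (DRing.restrictD (Ideal.Quotient.mk I)).obj (R.obj ω) ⟶ ω)
      (v : ω ⟶ Dual.inD A (I →ₗ[A] E))
      (w : Dual.inD A (I →ₗ[A] E) ⟶
        ((DRing.restrictD (Ideal.Quotient.mk I)).obj (R.obj ω))⟦(1 : ℤ)⟧),
      Triangle.mk u v w ∈ distTriang (Dual.D A) := by
  obtain ⟨J, a, b, hJ, hz, ⟨eJ⟩⟩ := exists_bounded_injective_model ω hω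
  haveI : J.IsStrictlyGE a := by
    rw [CochainComplex.isStrictlyGE_iff]
    intro i hi
    exact hz i (Or.inl hi)
  haveI : J.IsKInjective := CochainComplex.isKInjective_of_injective J a
  have hS := shortExact_DpSC J (quotSC I) (quotSC_shortExact I) hJ
  have hT := DerivedCategory.triangleOfSES_distinguished hS
  let e₁ : Q.obj (Dp J (resB (Ideal.Quotient.mk I))) ≅
      (DRing.restrictD (Ideal.Quotient.mk I)).obj (R.obj ω) :=
    (iotaIso (Ideal.Quotient.mk I) J adj).symm ≪≫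
      (DRing.restrictD (Ideal.Quotient.mk I)).mapIso (R.mapIso eJ)
  let e₂ : Q.obj (Dp J (ModuleCat.of A A)) ≅ ω := Q.mapIso (ev1Iso J) ≪≫ eJ
  obtain ⟨e₃⟩ := nonempty_iso_Dp_finLen J ω eJ hω hn I hIl E f hf
  exact exists_triangle_of_isos _ hT e₁ e₂ e₃

end Local

end Groth.Agent.Lib.Helper39.Dual.QuotTri
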