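import Groth.Agent.Lib.Helper39.Dual.EssFT
import Groth.Agent.Lib.Helper25.LocDual.DimFun
import Groth.Prelude.Def_Found

/-!
# A Noetherian ring with a dualizing complex is universally catenary (helper39)
-/

set_option autoImplicit false
universe u

namespace Groth.Agent.Lib.Helper39.Dual.EssFT

open CategoryTheory Groth.Agent.Lib.Helper25.LocDual

attribute [local instance] HasDerivedCategory.standard

variable {R : Type u} [CommRing R] [IsNoetherianRing R]

theorem height_ne_top' (q : PrimeSpectrum R) : Order.height q ≠ ⊤ := by
  rw [← PrimeSpectrum.height_eq_orderHeight]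
  exact Ideal.height_ne_top_of_isPrime

omit [IsNoetherianRing R] in
/-- along a saturated chain a dimension function drops by one at each step -/
theorem dimFun_chain (δ : PrimeSpectrum R → ℤ)
    (hδ : ∀ p q : PrimeSpectrum R, p ⋖ q → δ p = δ q + 1)
    (s : LTSeries (PrimeSpectrum R))
    (hs : ∀ i : Fin s.length, s (Fin.castSucc i) ⋖ s (Fin.succ i)) :
    δ s.head = δ s.last + s.length := by
  have key : ∀ i : Fin (s.length + 1), δ (s 0) = δ (s i) + (i : ℕ) := by
    intro i
    induction i using Fin.induction with
    | zero => simp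
    | succ i ih =>
      rw [ih, hδ _ _ (hs i)]
      simp only [Fin.val_castSucc, Fin.val_succ]
      push_cast
      ring
  have := key (Fin.last _)
  simpa [RelSeries.head, RelSeries.last] using this

theorem isCatenary_of_hasDual (h : HasDual R) : CAlg.IsCatenary R := by
  obtain ⟨ω, hω⟩ := h
  obtain ⟨δ, -, hδ⟩ := dimFun_main ω hω
  refine ⟨fun p q _ => ⟨(Order.height q).toNat, fun s _ hq => ?_⟩, fun s t hh hl hs ht => ?_⟩
  · have h1 : (s.length : ℕ∞) ≤ Order.height q := by
      rw [← hq]
      exact Order.length_le_height_last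
    have h2 := height_ne_top' q
    obtain ⟨m, hm⟩ := ENat.ne_top_iff_exists.1 h2
    rw [← hm] at h1 ⊢
    rw [ENat.toNat_coe]
    exact_mod_cast h1
  · have h1 := dimFun_chain δ hδ s hs
    have h2 := dimFun_chain δ hδ t ht
    rw [hh, hl] at h1
    have : (s.length : ℤ) = t.length := by lia
    exact_mod_cast this

theorem isUniversallyCatenary_of_hasDual (h : HasDual R) : CAlg.IsUniversallyCatenary R := by
  refine ⟨inferInstance, fun S _ _ hS => ?_⟩
  haveI := hS
  haveI : IsNoetherianRing S := Algebra.FiniteType.isNoetherianRing R S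
  exact isCatenary_of_hasDual (hasDual_of_finiteType h)

end Groth.Agent.Lib.Helper39.Dual.EssFT
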